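import Groth.Agent.H1.CSA.TensorSimple
import Mathlib.RingTheory.Flat.Basic
import Mathlib.RingTheory.Congruence.Basic
import Mathlib.RingTheory.TwoSidedIdeal.Lattice
import Mathlib.LinearAlgebra.Dimension.Free
import Mathlib.LinearAlgebra.Dimension.Constructions
import Mathlib.LinearAlgebra.Dual.Lemmas

set_option autoImplicit false
universe u v w
open scoped TensorProduct
open TensorProduct

namespace Groth.Agent.H1.CSA

section Center

variable {k : Type u} [Field k] {B : Type v} [Ring B] [Algebra k B] {A : Type w} [Ring A]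
  [Algebra k A]

/-- A central element of `B ⊗ A`, with `A` central over `k`, has the form `b ⊗ 1`. -/
theorem exists_eq_tmul_one_of_mem_center [Algebra.IsCentral k A] (z : B ⊗[k] A)
    (hz : ∀ d : A, ((1 : B) ⊗ₜ[k] d) * z = z * ((1 : B) ⊗ₜ[k] d)) :
    ∃ b₀ : B, z = b₀ ⊗ₜ[k] (1 : A) := by
  classical
  let b := Module.Basis.ofVectorSpace k B
  apply exists_eq_tmul_one_of_coord_mem_range b
  intro i
  have hc : equivFinsuppOfBasisLeft b z i ∈ Subalgebra.center k A := by
    rw [Subalgebra.mem_center_iff]
    intro d
    have := congrArg (fun y => equivFinsuppOfBasisLeft b y i) (hz d)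
    simp only [coord_one_tmul_mul, coord_mul_one_tmul] at this
    exact this
  obtain ⟨c, hc⟩ := (Algebra.IsCentral.mem_center_iff k).mp hc
  exact ⟨c, hc.symm⟩

/-- Base change of a central algebra along a field extension is central. -/
theorem isCentral_baseChange (K : Type v) [Field K] [Algebra k K] [Algebra.IsCentral k A] :
    Algebra.IsCentral K (K ⊗[k] A) where
  out := by
    intro z hz
    rw [Subalgebra.mem_center_iff] at hz
    obtain ⟨c, hc⟩ := exists_eq_tmul_one_of_mem_center z (fun d => hz _)
    rw [Algebra.mem_bot]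
    refine ⟨c, ?_⟩
    rw [hc, Algebra.TensorProduct.algebraMap_apply]
    rfl

end Center

section Descent

variable (k : Type u) [Field k] (K : Type v) [Field K] [Algebra k K] (A : Type w) [Ring A]
  [Algebra k A]

theorem includeRight_injective_field :
    Function.Injective (Algebra.TensorProduct.includeRight : A →ₐ[k] K ⊗[k] A) :=
  Algebra.TensorProduct.includeRight_injective (FaithfulSMul.algebraMap_injective k K)

theorem nontrivial_of_baseChange [Nontrivial (K ⊗[k] A)] : Nontrivial A := by
  by_contra h
  rw [not_nontrivial_iff_subsingleton] at h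
  have : Subsingleton (K ⊗[k] A) := by
    refine ⟨fun x y => ?_⟩
    have h0 : ∀ z : K ⊗[k] A, z = 0 := by
      intro z
      induction z using TensorProduct.induction_on with
      | zero => rfl
      | tmul c a => rw [Subsingleton.elim a 0, tmul_zero]
      | add x y hx hy => rw [hx, hy, add_zero]
    rw [h0 x, h0 y]
  exact not_subsingleton (K ⊗[k] A) this

/-- Simplicity descends along base field extension. -/
theorem isSimpleRing_of_baseChange [IsSimpleRing (K ⊗[k] A)] : IsSimpleRing A := by
  haveI : Nontrivial A := nontrivial_of_baseChange k K A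
  apply IsSimpleRing.of_eq_bot_or_eq_top
  intro I
  by_cases hI : I = ⊤
  · exact Or.inr hI
  left
  haveI : Nontrivial I.ringCon.Quotient := by
    refine ⟨⟨((0 : A) : I.ringCon.Quotient), ((1 : A) : I.ringCon.Quotient), fun h => hI ?_⟩⟩
    rw [RingCon.eq] at h
    exact (TwoSidedIdeal.one_mem_iff I).mp ((TwoSidedIdeal.mem_iff I 1).mpr (I.ringCon.symm h))
  let π : A →ₐ[k] I.ringCon.Quotient := RingCon.mkₐ k I.ringCon
  let F : K ⊗[k] A →ₐ[K] K ⊗[k] I.ringCon.Quotient :=
    Algebra.TensorProduct.map (AlgHom.id K K) π
  haveI : Nontrivial (K ⊗[k] I.ringCon.Quotient) :=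
    (includeRight_injective_field k K I.ringCon.Quotient).nontrivial
  have hF : Function.Injective F := RingHom.injective F.toRingHom
  rw [eq_bot_iff]
  intro x hx
  have h0 : π x = 0 := by
    change ((x : A) : I.ringCon.Quotient) = ((0 : A) : I.ringCon.Quotient)
    rw [RingCon.eq]
    exact (TwoSidedIdeal.mem_iff I x).mp hx
  have h1 : F ((1 : K) ⊗ₜ[k] x) = 0 := by
    simp only [F, Algebra.TensorProduct.map_tmul, h0, tmul_zero]
  have h2 : (1 : K) ⊗ₜ[k] x = 0 := hF (by rw [h1, map_zero])
  have h3 : x = 0 := includeRight_injective_field k K A (by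
    rw [map_zero]
    exact h2)
  rw [h3]
  exact TwoSidedIdeal.zero_mem _

/-- Centrality descends along base field extension. -/
theorem isCentral_of_baseChange [Algebra.IsCentral K (K ⊗[k] A)] : Algebra.IsCentral k A where
  out := by
    intro a ha
    rw [Subalgebra.mem_center_iff] at ha
    rw [Algebra.mem_bot]
    by_contra hne
    -- `a` is not a scalar: choose a functional killing `1` but not `a`
    have hmem : ((1 : K) ⊗ₜ[k] a) ∈ Subalgebra.center K (K ⊗[k] A) := by
      rw [Subalgebra.mem_center_iff]
      intro z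
      induction z using TensorProduct.induction_on with
      | zero => simp
      | tmul c d =>
        rw [Algebra.TensorProduct.tmul_mul_tmul, Algebra.TensorProduct.tmul_mul_tmul, ha d,
          mul_one, one_mul]
      | add x y hx hy => rw [add_mul, mul_add, hx, hy]
    obtain ⟨c, hc⟩ := (Algebra.IsCentral.mem_center_iff K).mp hmem
    rw [Algebra.TensorProduct.algebraMap_apply] at hc
    have hnotin : a ∉ Submodule.span k ({(1 : A)} : Set A) := by
      intro h
      rw [Submodule.mem_span_singleton] at h
      obtain ⟨r, hr⟩ := h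
      exact hne ⟨r, by rw [Algebra.algebraMap_eq_smul_one, hr]⟩
    obtain ⟨φ, hφa, hφ⟩ := Submodule.exists_dual_map_eq_bot_of_notMem hnotin inferInstance
    have hφ1 : φ 1 = 0 := by
      have : φ 1 ∈ Submodule.map φ (Submodule.span k ({(1 : A)} : Set A)) :=
        Submodule.mem_map_of_mem (Submodule.subset_span rfl)
      rw [hφ] at this
      exact this
    let ψ : K ⊗[k] A →ₗ[k] K := (TensorProduct.rid k K).toLinearMap ∘ₗ (LinearMap.lTensor K φ)
    have e1 : ψ ((1 : K) ⊗ₜ[k] a) = φ a • (1 : K) := by
      simp [ψ]
    have e2 : ψ ((algebraMap K K c) ⊗ₜ[k] (1 : A)) = 0 := by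
      simp [ψ, hφ1]
    rw [hc, e2] at e1
    have : φ a = 0 := by
      have := e1.symm
      rwa [smul_eq_zero, or_iff_left one_ne_zero] at this
    exact hφa this

/-- Finite-dimensionality descends along base field extension. -/
theorem finite_of_baseChange [Module.Finite K (K ⊗[k] A)] : Module.Finite k A := by
  rw [← Module.rank_lt_aleph0_iff]
  have h := Module.rank_lt_aleph0 K (K ⊗[k] A)
  rw [Module.rank_baseChange, Cardinal.lift_lt_aleph0] at h
  exact h

end Descent

end Groth.Agent.H1.CSA
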