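import Groth.Agent.H1.CSA.TensorIdeal
import Mathlib.RingTheory.Flat.Basic

set_option autoImplicit false
universe u v w
open scoped TensorProduct
open TensorProduct

namespace Groth.Agent.H1.CSA

variable {k : Type u} [Field k] {B : Type v} [Ring B] [Algebra k B] {A : Type w} [Ring A]
  [Algebra k A]

/-- The tensor product of a simple `k`-algebra with a central simple `k`-algebra is simple. -/
theorem isSimpleRing_tensorProduct [IsSimpleRing B] [IsSimpleRing A] [Algebra.IsCentral k A] :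
    IsSimpleRing (B ⊗[k] A) := by
  have hinj : Function.Injective (Algebra.TensorProduct.includeLeft : B →ₐ[k] B ⊗[k] A) :=
    Algebra.TensorProduct.includeLeft_injective (algebraMap k A).injective
  have : Nontrivial (B ⊗[k] A) := by
    refine ⟨⟨1, 0, fun h => ?_⟩⟩
    have h1 : (Algebra.TensorProduct.includeLeft : B →ₐ[k] B ⊗[k] A) 1 =
        (Algebra.TensorProduct.includeLeft : B →ₐ[k] B ⊗[k] A) 0 := by
      rw [map_one, map_zero, h]
    exact one_ne_zero (hinj h1)
  refine IsSimpleRing.of_eq_bot_or_eq_top fun I => ?_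
  let I₀ : TwoSidedIdeal B :=
    I.comap (Algebra.TensorProduct.includeLeft : B →ₐ[k] B ⊗[k] A)
  have hI₀ : ∀ a : B, a ∈ I₀ ↔ a ⊗ₜ[k] (1 : A) ∈ I := fun a => TwoSidedIdeal.mem_comap _
  rcases eq_bot_or_eq_top I₀ with h | h
  · left
    rw [eq_baseIdeal I, baseIdeal, eq_bot_iff, TwoSidedIdeal.span_le]
    rintro _ ⟨a, ha, rfl⟩
    have : a ∈ I₀ := (hI₀ a).mpr ha
    rw [h, TwoSidedIdeal.mem_bot] at this
    subst this
    change (0 : B) ⊗ₜ[k] (1 : A) ∈ (⊥ : TwoSidedIdeal (B ⊗[k] A))
    rw [TensorProduct.zero_tmul]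
    exact TwoSidedIdeal.zero_mem _
  · right
    have h1 : (1 : B) ∈ I₀ := by rw [h]; trivial
    rw [hI₀] at h1
    rw [eq_top_iff]
    intro x _
    have : x = x * ((1 : B) ⊗ₜ[k] (1 : A)) := by
      rw [← Algebra.TensorProduct.one_def, mul_one]
    rw [this]
    exact I.mul_mem_left _ _ h1

end Groth.Agent.H1.CSA
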