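import Groth.Agent.H1.CSA.SplitBrauer
import Groth.Agent.S7722
import Mathlib.RingTheory.MatrixAlgebra
import Mathlib.LinearAlgebra.Matrix.ToLin

/-!
# Brauer equivalence of algebras, in terms of matrix algebras
-/

set_option autoImplicit false
open scoped TensorProduct

namespace Groth.Agent.H1.CSA

section Central

variable {k : Type*} [Field k] {A B : Type*} [Ring A] [Algebra k A] [Ring B] [Algebra k B]

/-- The tensor product of two central algebras is central. -/
theorem isCentral_tensorProduct [Algebra.IsCentral k A] [Algebra.IsCentral k B] [Nontrivial A] :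
    Algebra.IsCentral k (B ⊗[k] A) where
  out := by
    intro z hz
    rw [Subalgebra.mem_center_iff] at hz
    obtain ⟨b₀, rfl⟩ := exists_eq_tmul_one_of_mem_center z (fun d => hz _)
    have hb₀ : b₀ ∈ Subalgebra.center k B := by
      rw [Subalgebra.mem_center_iff]
      intro b
      have h := hz (b ⊗ₜ[k] (1 : A))
      rw [Algebra.TensorProduct.tmul_mul_tmul, Algebra.TensorProduct.tmul_mul_tmul, mul_one] at h
      have hinj : Function.Injective (Algebra.TensorProduct.includeLeft : B →ₐ[k] B ⊗[k] A) :=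
        Algebra.TensorProduct.includeLeft_injective (algebraMap k A).injective
      exact hinj h
    obtain ⟨c, hc⟩ := Algebra.mem_bot.mp (Algebra.IsCentral.out hb₀)
    rw [Algebra.mem_bot]
    exact ⟨c, by rw [← hc, Algebra.TensorProduct.algebraMap_apply]⟩

end Central

section MatrixIsos

variable (k : Type*) [Field k] (A B : Type*) [Ring A] [Algebra k A] [Ring B] [Algebra k B]

/-- `M_n(M_m(A)) ≃ M_{nm}(A)`. -/
noncomputable def matMat (n m : ℕ) :
    Matrix (Fin n) (Fin n) (Matrix (Fin m) (Fin m) A) ≃ₐ[k] Matrix (Fin (n * m)) (Fin (n * m)) A :=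
  (Matrix.compAlgEquiv (Fin n) (Fin m) A k).trans (Matrix.reindexAlgEquiv k A finProdFinEquiv)

/-- `M_n(A) ⊗ B ≃ M_n(A ⊗ B)`. -/
noncomputable def matTensor (n : ℕ) :
    Matrix (Fin n) (Fin n) A ⊗[k] B ≃ₐ[k] Matrix (Fin n) (Fin n) (A ⊗[k] B) :=
  (Algebra.TensorProduct.congr (AlgEquiv.refl : Matrix (Fin n) (Fin n) A ≃ₐ[k] Matrix (Fin n) (Fin n) A)
      (Matrix.uniqueAlgEquiv (m := Unit) (A := B) (R := k)).symm).trans
    ((Matrix.kroneckerTMulAlgEquiv (Fin n) Unit k k A B).trans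
      (Matrix.reindexAlgEquiv k _ (Equiv.prodUnique (Fin n) Unit)))

/-- `B ⊗ M_n(A) ≃ M_n(B ⊗ A)`. -/
noncomputable def tensorMat (n : ℕ) :
    B ⊗[k] Matrix (Fin n) (Fin n) A ≃ₐ[k] Matrix (Fin n) (Fin n) (B ⊗[k] A) :=
  (Algebra.TensorProduct.comm k B (Matrix (Fin n) (Fin n) A)).trans
    ((matTensor k A B n).trans (Algebra.TensorProduct.comm k A B).mapMatrix)

end MatrixIsos

section BrEq

variable (k : Type*) [Field k]

/-- Brauer equivalence: matrix algebras of positive sizes are isomorphic. -/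
def BrEq (A B : Type*) [Ring A] [Algebra k A] [Ring B] [Algebra k B] : Prop :=
  ∃ n m : ℕ, n ≠ 0 ∧ m ≠ 0 ∧
    Nonempty (Matrix (Fin n) (Fin n) A ≃ₐ[k] Matrix (Fin m) (Fin m) B)

variable {k}
variable {A B C : Type*} [Ring A] [Algebra k A] [Ring B] [Algebra k B] [Ring C] [Algebra k C]

theorem BrEq.of_algEquiv (e : A ≃ₐ[k] B) : BrEq k A B :=
  ⟨1, 1, one_ne_zero, one_ne_zero, ⟨e.mapMatrix⟩⟩

theorem BrEq.refl (A : Type*) [Ring A] [Algebra k A] : BrEq k A A :=
  BrEq.of_algEquiv AlgEquiv.refl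

theorem BrEq.symm (h : BrEq k A B) : BrEq k B A := by
  obtain ⟨n, m, hn, hm, ⟨e⟩⟩ := h
  exact ⟨m, n, hm, hn, ⟨e.symm⟩⟩

theorem BrEq.trans (h₁ : BrEq k A B) (h₂ : BrEq k B C) : BrEq k A C := by
  obtain ⟨n, m, hn, hm, ⟨e₁⟩⟩ := h₁
  obtain ⟨n', m', hn', hm', ⟨e₂⟩⟩ := h₂
  refine ⟨n' * n, m * m', Nat.mul_ne_zero hn' hn, Nat.mul_ne_zero hm hm', ⟨?_⟩⟩
  exact (matMat k A n' n).symm.trans (e₁.mapMatrix.trans ((matMat k B n' m).trans
    ((Matrix.reindexAlgEquiv k B (finCongr (Nat.mul_comm n' m))).trans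
      ((matMat k B m n').symm.trans (e₂.mapMatrix.trans (matMat k C m m'))))))

theorem BrEq.matrix (A : Type*) [Ring A] [Algebra k A] (n : ℕ) (hn : n ≠ 0) :
    BrEq k (Matrix (Fin n) (Fin n) A) A :=
  ⟨1, 1 * n, one_ne_zero, Nat.mul_ne_zero one_ne_zero hn, ⟨matMat k A 1 n⟩⟩

theorem BrEq.tensor_right (h : BrEq k A B) (C : Type*) [Ring C] [Algebra k C] :
    BrEq k (A ⊗[k] C) (B ⊗[k] C) := by
  obtain ⟨n, m, hn, hm, ⟨e⟩⟩ := h
  exact ⟨n, m, hn, hm, ⟨(matTensor k A C n).symm.trans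
    ((Algebra.TensorProduct.congr e (AlgEquiv.refl : C ≃ₐ[k] C)).trans (matTensor k B C m))⟩⟩

theorem BrEq.tensor_left (h : BrEq k A B) (C : Type*) [Ring C] [Algebra k C] :
    BrEq k (C ⊗[k] A) (C ⊗[k] B) :=
  (BrEq.of_algEquiv (Algebra.TensorProduct.comm k C A)).trans
    ((h.tensor_right C).trans (BrEq.of_algEquiv (Algebra.TensorProduct.comm k B C)))

theorem BrEq.tensor {A' B' : Type*} [Ring A'] [Algebra k A'] [Ring B'] [Algebra k B']
    (h : BrEq k A B) (h' : BrEq k A' B') : BrEq k (A ⊗[k] A') (B ⊗[k] B') :=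
  (h.tensor_right A').trans (h'.tensor_left B)

/-- Splitting is invariant under Brauer equivalence. -/
theorem BrEq.splits {k' : Type*} [Field k'] [Algebra k k']
    [Algebra.IsCentral k B] [IsSimpleRing B] [FiniteDimensional k B]
    (h : BrEq k A B) (hA : Curves.Splits k A k') : Curves.Splits k B k' := by
  obtain ⟨n, m, hn, hm, ⟨e⟩⟩ := h
  exact splits_of_splits_matrix m hm (splits_of_algEquiv e (splits_matrix n hn hA))

theorem BrEq.splits_iff {k' : Type*} [Field k'] [Algebra k k']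
    [Algebra.IsCentral k A] [IsSimpleRing A] [FiniteDimensional k A]
    [Algebra.IsCentral k B] [IsSimpleRing B] [FiniteDimensional k B]
    (h : BrEq k A B) : Curves.Splits k A k' ↔ Curves.Splits k B k' :=
  ⟨h.splits, h.symm.splits⟩

end BrEq

section SplitLemmas

variable {k : Type*} [Field k]

/-- `k` itself is split. -/
theorem splits_self : Curves.Splits k k k :=
  ⟨1, one_ne_zero, ⟨(Algebra.TensorProduct.lid k k).trans
    ((Matrix.uniqueAlgEquiv (m := Unit) (A := k) (R := k)).symm.trans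
      (Matrix.reindexAlgEquiv k k (Equiv.ofUnique Unit (Fin 1))))⟩⟩

/-- A split algebra is isomorphic to a matrix algebra. -/
theorem exists_algEquiv_matrix_of_splits {A : Type*} [Ring A] [Algebra k A]
    (h : Curves.Splits k A k) : ∃ n : ℕ, n ≠ 0 ∧ Nonempty (A ≃ₐ[k] Matrix (Fin n) (Fin n) k) := by
  obtain ⟨n, hn, ⟨g⟩⟩ := h
  exact ⟨n, hn, ⟨(Algebra.TensorProduct.lid k A).symm.trans g⟩⟩

theorem splits_of_algEquiv_matrix {A : Type*} [Ring A] [Algebra k A] (n : ℕ) (hn : n ≠ 0)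
    (e : A ≃ₐ[k] Matrix (Fin n) (Fin n) k) : Curves.Splits k A k :=
  ⟨n, hn, ⟨(Algebra.TensorProduct.lid k A).trans e⟩⟩

/-- A split algebra is Brauer equivalent to `k`. -/
theorem brEq_self_of_splits {A : Type*} [Ring A] [Algebra k A] (h : Curves.Splits k A k) :
    BrEq k A k := by
  obtain ⟨n, hn, ⟨e⟩⟩ := exists_algEquiv_matrix_of_splits h
  exact (BrEq.of_algEquiv e).trans (BrEq.matrix k n hn)

/-- Cancellation: if `X ⊗ Y` and `X` are split then so is `Y`. -/
theorem splits_of_tensor_of_splits_left {X Y : Type*} [Ring X] [Algebra k X] [Ring Y]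
    [Algebra k Y] [Algebra.IsCentral k Y] [IsSimpleRing Y] [FiniteDimensional k Y]
    (h : Curves.Splits k (X ⊗[k] Y) k) (hX : Curves.Splits k X k) : Curves.Splits k Y k := by
  obtain ⟨a, ha, ⟨e⟩⟩ := exists_algEquiv_matrix_of_splits hX
  have h1 : Curves.Splits k (Matrix (Fin a) (Fin a) (k ⊗[k] Y)) k :=
    splits_of_algEquiv
      ((Algebra.TensorProduct.congr e (AlgEquiv.refl : Y ≃ₐ[k] Y)).trans (matTensor k k Y a)) h
  have h2 : Curves.Splits k (k ⊗[k] Y) k := by
    haveI : Algebra.IsCentral k (k ⊗[k] Y) :=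
      isCentral_of_algEquiv (Algebra.TensorProduct.lid k Y).symm
    haveI : IsSimpleRing (k ⊗[k] Y) :=
      IsSimpleRing.of_ringEquiv (Algebra.TensorProduct.lid k Y).symm.toRingEquiv inferInstance
    exact splits_of_splits_matrix a ha h1
  exact splits_of_algEquiv (Algebra.TensorProduct.lid k Y) h2

/-- A central simple algebra with a small nonzero module is split. -/
theorem splits_of_module {A : Type*} [Ring A] [Algebra k A] [IsSimpleRing A]
    [FiniteDimensional k A] (W : Type*) [AddCommGroup W] [Module k W] [Module A W]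
    [IsScalarTower k A W] [FiniteDimensional k W] [Nontrivial W]
    (h : Module.finrank k W ^ 2 ≤ Module.finrank k A) : Curves.Splits k A k := by
  let μ : A →ₐ[k] Module.End k W := Algebra.lsmul k k W
  have hinj : Function.Injective μ := RingHom.injective μ.toRingHom
  have hdim : Module.finrank k A = Module.finrank k (Module.End k W) := by
    apply le_antisymm
    · exact LinearMap.finrank_le_finrank_of_injective (f := μ.toLinearMap) hinj
    · rw [Module.finrank_linearMap, ← pow_two]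
      exact h
  have hbij : Function.Bijective μ :=
    ⟨hinj, (LinearMap.injective_iff_surjective_of_finrank_eq_finrank
      (f := μ.toLinearMap) hdim).mp hinj⟩
  have hr : Module.finrank k W ≠ 0 := (Module.finrank_pos).ne'
  exact splits_of_algEquiv_matrix (Module.finrank k W) hr
    ((AlgEquiv.ofBijective μ hbij).trans (algEquivMatrix (Module.finBasis k W)))

end SplitLemmas

section OpLemmas

variable {k : Type*} [Field k] {X Y : Type*} [Ring X] [Algebra k X] [Ring Y] [Algebra k Y]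
  [Algebra.IsCentral k Y] [IsSimpleRing Y] [FiniteDimensional k Y]

/-- `Y ⊗ Yᵐᵒᵖ` is a matrix algebra. -/
theorem exists_tensor_op_algEquiv_matrix :
    Nonempty (Y ⊗[k] Yᵐᵒᵖ ≃ₐ[k]
      Matrix (Fin (Module.finrank k Y)) (Fin (Module.finrank k Y)) k) :=
  ⟨(AlgEquiv.ofBijective (AlgHom.mulLeftRight k Y) (Groth.Agent.S7722.result k Y)).trans
    (algEquivMatrix (Module.finBasis k Y))⟩

/-- If `X ⊗ Y` is split then `X` is Brauer equivalent to `Yᵐᵒᵖ`. -/
theorem brEq_op_of_splits_tensor (h : Curves.Splits k (X ⊗[k] Y) k) : BrEq k X Yᵐᵒᵖ := by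
  obtain ⟨N, hN, ⟨g⟩⟩ := exists_algEquiv_matrix_of_splits h
  obtain ⟨eY⟩ := exists_tensor_op_algEquiv_matrix (k := k) (Y := Y)
  have hn : Module.finrank k Y ≠ 0 := (Module.finrank_pos).ne'
  refine ⟨Module.finrank k Y, N, hn, hN, ⟨?_⟩⟩
  exact (matrixEquivTensor (Fin (Module.finrank k Y)) k X).trans
    ((Algebra.TensorProduct.congr (AlgEquiv.refl : X ≃ₐ[k] X) eY.symm).trans
      ((Algebra.TensorProduct.assoc k k k X Y Yᵐᵒᵖ).symm.trans
        ((Algebra.TensorProduct.congr g (AlgEquiv.refl : Yᵐᵒᵖ ≃ₐ[k] Yᵐᵒᵖ)).trans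
          ((Algebra.TensorProduct.comm k _ _).trans (matrixEquivTensor (Fin N) k Yᵐᵒᵖ).symm))))

/-- `Y ⊗ Yᵐᵒᵖ` is split. -/
theorem splits_tensor_op : Curves.Splits k (Y ⊗[k] Yᵐᵒᵖ) k := by
  obtain ⟨eY⟩ := exists_tensor_op_algEquiv_matrix (k := k) (Y := Y)
  exact splits_of_algEquiv_matrix _ (Module.finrank_pos).ne' eY

end OpLemmas

end Groth.Agent.H1.CSA
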