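import Mathlib.Algebra.Central.Basic

set_option autoImplicit false

namespace Groth.Agent.H1.CSA

/-- Centrality transfers along an algebra isomorphism (universe polymorphic). -/
theorem isCentral_of_algEquiv {K D D' : Type*} [CommSemiring K] [Semiring D] [Algebra K D]
    [Semiring D'] [Algebra K D'] [h : Algebra.IsCentral K D] (e : D ≃ₐ[K] D') :
    Algebra.IsCentral K D' where
  out := by
    intro z hz
    rw [Subalgebra.mem_center_iff] at hz
    have hz' : e.symm z ∈ Subalgebra.center K D := by
      rw [Subalgebra.mem_center_iff]
      intro d
      apply e.injective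
      rw [map_mul, map_mul, e.apply_symm_apply]
      exact hz (e d)
    obtain ⟨c, hc⟩ := (Algebra.IsCentral.mem_center_iff K).mp hz'
    rw [Algebra.mem_bot]
    refine ⟨c, ?_⟩
    have := congrArg e hc
    rw [e.apply_symm_apply, e.commutes] at this
    exact this.symm

end Groth.Agent.H1.CSA
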