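import Groth.Agent.H1.CSA.RepModule
import Groth.Agent.H1.CSA.TensorSimple
import Mathlib.Algebra.Azumaya.Defs
import Mathlib.Algebra.Central.Basic
import Mathlib.RingTheory.TensorProduct.Finite

set_option autoImplicit false
universe u v w
open scoped TensorProduct
open MulOpposite

namespace Groth.Agent.H1.CSA

variable (k : Type u) [Field k] (A : Type v) [Ring A] [Algebra k A]
  [Algebra.IsCentral k A] [IsSimpleRing A] [FiniteDimensional k A]
  (B : Type w) [Ring B] [Algebra k B] [IsSimpleRing B]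

/-- The bimodule representation of `B ⊗ Aᵐᵒᵖ` on `A` attached to an algebra map `f : B → A`. -/
noncomputable def bimodRep (f : B →ₐ[k] A) : B ⊗[k] Aᵐᵒᵖ →ₐ[k] Module.End k A :=
  (AlgHom.mulLeftRight k A).comp (Algebra.TensorProduct.map f (AlgHom.id k Aᵐᵒᵖ))

omit [Algebra.IsCentral k A] [IsSimpleRing A] [FiniteDimensional k A] [IsSimpleRing B] in
theorem bimodRep_tmul (f : B →ₐ[k] A) (b : B) (a : Aᵐᵒᵖ) (x : A) :
    bimodRep k A B f (b ⊗ₜ[k] a) x = f b * x * a.unop := by
  simp [bimodRep]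

/-- **Skolem–Noether**. -/
theorem skolem_noether (f g : B →ₐ[k] A) :
    ∃ x : Aˣ, ∀ b : B, f b = (x : A) * g b * (x⁻¹ : Aˣ) := by
  have hfinj : Function.Injective f := (f : B →+* A).injective
  have : FiniteDimensional k B := FiniteDimensional.of_injective f.toLinearMap hfinj
  have : IsSimpleRing (B ⊗[k] Aᵐᵒᵖ) := isSimpleRing_tensorProduct
  obtain ⟨φ, hφ⟩ := exists_linearEquiv_conj (bimodRep k A B f) (bimodRep k A B g)
  -- `φ` is left multiplication by `u := φ 1`
  have hφmul : ∀ a : A, φ a = φ 1 * a := by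
    intro a
    have := hφ ((1 : B) ⊗ₜ[k] op a) 1
    rw [bimodRep_tmul, bimodRep_tmul, map_one, map_one, one_mul, one_mul, one_mul, unop_op] at this
    exact this
  have hφsymm : ∀ (r : B ⊗[k] Aᵐᵒᵖ) (v : A),
      φ.symm (bimodRep k A B g r v) = bimodRep k A B f r (φ.symm v) := by
    intro r v
    apply φ.injective
    rw [hφ, φ.apply_symm_apply, φ.apply_symm_apply]
  have hφsmul : ∀ a : A, φ.symm a = φ.symm 1 * a := by
    intro a
    have := hφsymm ((1 : B) ⊗ₜ[k] op a) 1
    rw [bimodRep_tmul, bimodRep_tmul, map_one, map_one, one_mul, one_mul, one_mul, unop_op] at this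
    exact this
  have huw : φ 1 * φ.symm 1 = 1 := by
    rw [← hφmul, φ.apply_symm_apply]
  have hwu : φ.symm 1 * φ 1 = 1 := by
    rw [← hφsmul, φ.symm_apply_apply]
  have hrel : ∀ b : B, φ 1 * f b = g b * φ 1 := by
    intro b
    have := hφ (b ⊗ₜ[k] (1 : Aᵐᵒᵖ)) 1
    rw [bimodRep_tmul, bimodRep_tmul, unop_one, mul_one, mul_one, mul_one, hφmul] at this
    exact this
  refine ⟨⟨φ.symm 1, φ 1, hwu, huw⟩, fun b => ?_⟩
  change f b = φ.symm 1 * g b * φ 1
  rw [mul_assoc, ← hrel, ← mul_assoc, hwu, one_mul]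

end Groth.Agent.H1.CSA
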