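import Groth.Agent.H1.CSA.EndSimple
import Groth.Agent.H1.CSA.SkolemNoether
import Mathlib.Algebra.Algebra.Subalgebra.Centralizer
import Mathlib.Algebra.Algebra.Subalgebra.Lattice

set_option autoImplicit false
universe u v
open scoped TensorProduct
open MulOpposite

namespace Groth.Agent.H1.CSA

variable (k : Type u) [Field k] (A : Type v) [Ring A] [Algebra k A]
  (B : Subalgebra k A)

/-- `A` as a module over `B ⊗ Aᵐᵒᵖ`. -/
abbrev BiMod : Type v := RepModule (bimodRep k A ↥B B.val)

variable {k A B}

/-- The underlying element of `A`. -/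
def BiMod.toA (x : BiMod k A B) : A := x

/-- An element of `A` seen in the bimodule. -/
def BiMod.ofA (x : A) : BiMod k A B := x

theorem BiMod.toA_ofA (x : A) : BiMod.toA (BiMod.ofA x : BiMod k A B) = x := rfl

theorem BiMod.ofA_toA (x : BiMod k A B) : BiMod.ofA (BiMod.toA x) = x := rfl

theorem BiMod.smul_ofA (r : ↥B ⊗[k] Aᵐᵒᵖ) (x : A) :
    r • (BiMod.ofA x : BiMod k A B) = BiMod.ofA (bimodRep k A ↥B B.val r x) := rfl

theorem BiMod.toA_injective : Function.Injective (BiMod.toA : BiMod k A B → A) :=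
  fun _ _ h => h

theorem biMod_end_apply (ψ : Module.End (↥B ⊗[k] Aᵐᵒᵖ) (BiMod k A B)) (x : A) :
    BiMod.toA (ψ (BiMod.ofA x)) = BiMod.toA (ψ (BiMod.ofA 1)) * x := by
  have h := ψ.map_smul ((1 : ↥B) ⊗ₜ[k] op x) (BiMod.ofA 1)
  rw [BiMod.smul_ofA, ← BiMod.ofA_toA (ψ (BiMod.ofA 1)), BiMod.smul_ofA,
    bimodRep_tmul, bimodRep_tmul] at h
  have h2 := congrArg BiMod.toA h
  rw [BiMod.toA_ofA] at h2
  simpa [BiMod.toA_ofA] using h2

theorem biMod_end_one_mem (ψ : Module.End (↥B ⊗[k] Aᵐᵒᵖ) (BiMod k A B)) :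
    BiMod.toA (ψ (BiMod.ofA 1)) ∈ Subalgebra.centralizer k (B : Set A) := by
  rw [Subalgebra.mem_centralizer_iff]
  intro b hb
  have h := ψ.map_smul ((⟨b, hb⟩ : ↥B) ⊗ₜ[k] (1 : Aᵐᵒᵖ)) (BiMod.ofA 1)
  rw [BiMod.smul_ofA, ← BiMod.ofA_toA (ψ (BiMod.ofA 1)), BiMod.smul_ofA,
    bimodRep_tmul, bimodRep_tmul] at h
  have h2 := congrArg BiMod.toA h
  rw [BiMod.toA_ofA] at h2
  simp only [Subalgebra.coe_val, mul_one, unop_one, BiMod.toA_ofA] at h2
  rw [biMod_end_apply] at h2
  exact h2.symm

variable (k A B) in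
/-- Evaluation at `1`, as an algebra map from the bimodule endomorphisms to `A`. -/
noncomputable def biModEndToAlg : Module.End (↥B ⊗[k] Aᵐᵒᵖ) (BiMod k A B) →ₐ[k] A where
  toFun ψ := BiMod.toA (ψ (BiMod.ofA 1))
  map_one' := rfl
  map_mul' ψ φ := by
    change BiMod.toA (ψ (φ (BiMod.ofA 1))) = _
    rw [← BiMod.ofA_toA (φ (BiMod.ofA 1)), biMod_end_apply ψ, BiMod.ofA_toA]
  map_zero' := rfl
  map_add' _ _ := rfl
  commutes' c := by
    change BiMod.toA ((algebraMap k (Module.End (↥B ⊗[k] Aᵐᵒᵖ) (BiMod k A B)) c)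
      (BiMod.ofA 1)) = algebraMap k A c
    rw [Module.algebraMap_end_apply]
    exact (Algebra.algebraMap_eq_smul_one c).symm

/-- Left multiplication by an element of the centralizer is a bimodule endomorphism. -/
noncomputable def mulLeftBiModEnd (c : A) (hc : c ∈ Subalgebra.centralizer k (B : Set A)) :
    Module.End (↥B ⊗[k] Aᵐᵒᵖ) (BiMod k A B) where
  toFun x := BiMod.ofA (c * BiMod.toA x)
  map_add' x y := mul_add c (BiMod.toA x) (BiMod.toA y)
  map_smul' r x := by
    change BiMod.ofA (c * BiMod.toA (r • x)) = r • BiMod.ofA (c * BiMod.toA x)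
    rw [BiMod.smul_ofA]
    change BiMod.ofA (c * (bimodRep k A ↥B B.val r (BiMod.toA x))) = _
    congr 1
    generalize BiMod.toA x = y
    induction r using TensorProduct.induction_on with
    | zero => simp
    | tmul b a =>
      rw [bimodRep_tmul, bimodRep_tmul]
      have hbc : (b : A) * c = c * b := (Subalgebra.mem_centralizer_iff k).mp hc b b.2
      simp only [Subalgebra.coe_val]
      calc c * ((b : A) * y * a.unop) = (c * b) * (y * a.unop) := by
            simp only [mul_assoc]
        _ = ((b : A) * c) * (y * a.unop) := by rw [hbc]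
        _ = (b : A) * (c * y) * a.unop := by simp only [mul_assoc]
    | add r s hr hs =>
      rw [map_add, LinearMap.add_apply, mul_add, hr, hs, LinearMap.add_apply]

variable (k A B) in
/-- The bimodule endomorphisms of `A` are the centralizer of `B`. -/
noncomputable def biModEndEquivCentralizer :
    Module.End (↥B ⊗[k] Aᵐᵒᵖ) (BiMod k A B) ≃ₐ[k] ↥(Subalgebra.centralizer k (B : Set A)) :=
  AlgEquiv.ofBijective ((biModEndToAlg k A B).codRestrict _ biMod_end_one_mem)
    ⟨fun ψ φ h => LinearMap.ext fun x => by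
        have h' : BiMod.toA (ψ (BiMod.ofA 1)) = BiMod.toA (φ (BiMod.ofA 1)) :=
          congrArg Subtype.val h
        apply BiMod.toA_injective
        rw [← BiMod.ofA_toA x, biMod_end_apply ψ, biMod_end_apply φ, h'],
      fun c => ⟨mulLeftBiModEnd c.1 c.2, Subtype.ext (mul_one c.1)⟩⟩

section CSA

variable [Algebra.IsCentral k A] [IsSimpleRing A] [FiniteDimensional k A] [IsSimpleRing B]

variable (k A B)

/-- The centralizer of a simple subalgebra of a central simple algebra is simple. -/
theorem isSimpleRing_centralizer : IsSimpleRing (Subalgebra.centralizer k (B : Set A)) := by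
  have : IsSimpleRing (↥B ⊗[k] Aᵐᵒᵖ) := isSimpleRing_tensorProduct
  have : IsArtinianRing (↥B ⊗[k] Aᵐᵒᵖ) := IsArtinianRing.of_finite k _
  have : Module.Finite (↥B ⊗[k] Aᵐᵒᵖ) (BiMod k A B) :=
    Module.Finite.of_restrictScalars_finite k _ _
  have : Nontrivial (BiMod k A B) := inferInstanceAs (Nontrivial A)
  exact IsSimpleRing.of_ringEquiv (biModEndEquivCentralizer k A B).toRingEquiv
    (isSimpleRing_end (BiMod k A B))

/-- `dim A = dim B * dim C_A(B)`. -/
theorem finrank_centralizer :
    Module.finrank k A =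
      Module.finrank k B * Module.finrank k (Subalgebra.centralizer k (B : Set A)) := by
  have : IsSimpleRing (↥B ⊗[k] Aᵐᵒᵖ) := isSimpleRing_tensorProduct
  have h := finrank_end_mul_finrank (k := k) (R := ↥B ⊗[k] Aᵐᵒᵖ) (BiMod k A B)
  rw [(biModEndEquivCentralizer k A B).toLinearEquiv.finrank_eq, Module.finrank_tensorProduct,
    ← (MulOpposite.opLinearEquiv k : A ≃ₗ[k] Aᵐᵒᵖ).finrank_eq] at h
  have h' : Module.finrank k (BiMod k A B) = Module.finrank k A := rfl
  rw [h'] at h
  have hA : 0 < Module.finrank k A := Module.finrank_pos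
  have : Module.finrank k A * (Module.finrank k B *
      Module.finrank k (Subalgebra.centralizer k (B : Set A))) =
      Module.finrank k A * Module.finrank k A := by
    rw [← pow_two, ← h]; ring
  exact (Nat.eq_of_mul_eq_mul_left hA this).symm

/-- The double centralizer theorem. -/
theorem centralizer_centralizer :
    Subalgebra.centralizer k (Subalgebra.centralizer k (B : Set A) : Set A) = B := by
  have hC : IsSimpleRing (Subalgebra.centralizer k (B : Set A)) := isSimpleRing_centralizer k A B
  have h1 := finrank_centralizer k A B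
  have h2 := finrank_centralizer k A (Subalgebra.centralizer k (B : Set A))
  have hpos : 0 < Module.finrank k (Subalgebra.centralizer k (B : Set A)) := Module.finrank_pos
  have h3 : Module.finrank k B = Module.finrank k
      (Subalgebra.centralizer k (Subalgebra.centralizer k (B : Set A) : Set A)) := by
    rw [h1, mul_comm] at h2
    exact Nat.eq_of_mul_eq_mul_left hpos h2
  have hle : B ≤ Subalgebra.centralizer k (Subalgebra.centralizer k (B : Set A) : Set A) :=
    Subalgebra.le_centralizer_centralizer k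
  symm
  apply Subalgebra.toSubmodule_injective
  exact Submodule.eq_of_le_of_finrank_eq hle h3

end CSA

end Groth.Agent.H1.CSA
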