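import Groth.Prelude.Def_Curves
import Groth.Agent.H1.CSA.BaseChange
import Groth.Agent.H1.CSA.CentralEquiv
import Mathlib.RingTheory.MatrixAlgebra
import Mathlib.LinearAlgebra.Matrix.Unique
import Mathlib.LinearAlgebra.Matrix.Reindex
import Mathlib.Data.Matrix.Composition
import Mathlib.LinearAlgebra.FreeModule.Finite.Matrix
import Mathlib.LinearAlgebra.FiniteDimensional.Lemmas
import Mathlib.LinearAlgebra.Dimension.Free
import Mathlib.Algebra.Module.Opposite
import Mathlib.RingTheory.TensorProduct.Maps

set_option autoImplicit false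
open scoped TensorProduct

namespace Groth.Agent.H1.CSA

section MatrixBaseChange

variable (R S B n : Type*) [CommSemiring R] [CommSemiring S] [Algebra R S] [Semiring B]
  [Algebra R B] [Fintype n] [DecidableEq n]

/-- `S ⊗ M_n(B) ≃ M_n(S ⊗ B)` as `S`-algebras. -/
noncomputable def matrixBaseChange : S ⊗[R] Matrix n n B ≃ₐ[S] Matrix n n (S ⊗[R] B) :=
  (Algebra.TensorProduct.congr (Matrix.uniqueAlgEquiv (m := Unit) (A := S) (R := S)).symm
      (AlgEquiv.refl : Matrix n n B ≃ₐ[R] Matrix n n B)).trans
    ((Matrix.kroneckerTMulAlgEquiv Unit n R S S B).trans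
      (Matrix.reindexAlgEquiv S _ (Equiv.uniqueProd n Unit)))

/-- `M_n(S) ⊗ B ≃ M_n(S ⊗ B)` as `S`-algebras. -/
noncomputable def matrixTensorRight : Matrix n n S ⊗[R] B ≃ₐ[S] Matrix n n (S ⊗[R] B) :=
  (Algebra.TensorProduct.congr (AlgEquiv.refl : Matrix n n S ≃ₐ[S] Matrix n n S)
      (Matrix.uniqueAlgEquiv (m := Unit) (A := B) (R := R)).symm).trans
    ((Matrix.kroneckerTMulAlgEquiv n Unit R S S B).trans
      (Matrix.reindexAlgEquiv S _ (Equiv.prodUnique n Unit)))

end MatrixBaseChange

section Splits

variable {k : Type*} [Field k]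

theorem splits_of_algEquiv {A A' k' : Type*} [Ring A] [Algebra k A] [Ring A'] [Algebra k A']
    [Field k'] [Algebra k k'] (e : A ≃ₐ[k] A') (h : Curves.Splits k A k') :
    Curves.Splits k A' k' := by
  obtain ⟨n, hn, ⟨g⟩⟩ := h
  exact ⟨n, hn, ⟨(Algebra.TensorProduct.congr (AlgEquiv.refl : k' ≃ₐ[k'] k') e.symm).trans g⟩⟩

theorem splits_matrix {D k' : Type*} [Ring D] [Algebra k D] [Field k'] [Algebra k k']
    (r : ℕ) (hr : r ≠ 0) (h : Curves.Splits k D k') :
    Curves.Splits k (Matrix (Fin r) (Fin r) D) k' := by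
  obtain ⟨n, hn, ⟨g⟩⟩ := h
  refine ⟨r * n, Nat.mul_ne_zero hr hn, ⟨?_⟩⟩
  exact (matrixBaseChange k k' D (Fin r)).trans (g.mapMatrix.trans
    ((Matrix.compAlgEquiv (Fin r) (Fin n) k' k').trans
      (Matrix.reindexAlgEquiv k' k' finProdFinEquiv)))

theorem splits_extend {A k' K : Type*} [Ring A] [Algebra k A] [Field k'] [Algebra k k']
    [Field K] [Algebra k K] [Algebra k' K] [IsScalarTower k k' K]
    (h : Curves.Splits k A k') : Curves.Splits k A K := by
  obtain ⟨n, hn, ⟨g⟩⟩ := h
  refine ⟨n, hn, ⟨?_⟩⟩
  exact ((Algebra.TensorProduct.congr (Algebra.TensorProduct.rid k' K K)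
      (AlgEquiv.refl : A ≃ₐ[k] A)).symm.trans
    ((Algebra.TensorProduct.assoc k k' K K k' A).trans
      ((Algebra.TensorProduct.congr (AlgEquiv.refl : K ≃ₐ[K] K) g).trans
        ((matrixBaseChange k' K k' (Fin n)).trans
          (Algebra.TensorProduct.rid k' K K).mapMatrix))))

theorem splits_tensor {A B K : Type*} [Ring A] [Algebra k A] [Ring B] [Algebra k B]
    [Field K] [Algebra k K] (hA : Curves.Splits k A K) (hB : Curves.Splits k B K) :
    Curves.Splits k (A ⊗[k] B) K := by
  obtain ⟨n, hn, ⟨g⟩⟩ := hA
  obtain ⟨m, hm, ⟨g'⟩⟩ := hB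
  refine ⟨n * m, Nat.mul_ne_zero hn hm, ⟨?_⟩⟩
  exact (Algebra.TensorProduct.assoc k k K K A B).symm.trans
    ((Algebra.TensorProduct.congr g (AlgEquiv.refl : B ≃ₐ[k] B)).trans
      ((matrixTensorRight k K B (Fin n)).trans (g'.mapMatrix.trans
        ((Matrix.compAlgEquiv (Fin n) (Fin m) K K).trans
          (Matrix.reindexAlgEquiv K K finProdFinEquiv)))))

end Splits

section SplitByEmbedding

variable {k : Type*} [Field k] {B : Type*} [Ring B] [Algebra k B] {k' : Type*} [Field k']
  [Algebra k k']

/-- `B` as a `k'`-vector space via right multiplication through `ι : k' → B`. -/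
def RightMod (_ι : k' →ₐ[k] B) : Type _ := B

namespace RightMod

variable (ι : k' →ₐ[k] B)

instance : AddCommGroup (RightMod ι) := inferInstanceAs (AddCommGroup B)

instance : Module k (RightMod ι) := inferInstanceAs (Module k B)

instance : Module k' (RightMod ι) :=
  Module.compHom B (ι.toRingHom.toOpposite (fun x y => by
    change ι x * ι y = ι y * ι x
    rw [← map_mul, ← map_mul, mul_comm]))

/-- The underlying element. -/
def toB (x : RightMod ι) : B := x

/-- The inverse of `toB`. -/
def ofB (x : B) : RightMod ι := x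

theorem toB_ofB (x : B) : toB ι (ofB ι x) = x := rfl
theorem ofB_toB (x : RightMod ι) : ofB ι (toB ι x) = x := rfl
theorem toB_smul (c : k') (x : RightMod ι) : toB ι (c • x) = toB ι x * ι c := rfl
theorem toB_add (x y : RightMod ι) : toB ι (x + y) = toB ι x + toB ι y := rfl
theorem toB_smul' (a : k) (x : RightMod ι) : toB ι (a • x) = a • toB ι x := rfl
theorem toB_injective : Function.Injective (toB ι) := fun _ _ h => h

instance : IsScalarTower k k' (RightMod ι) :=
  ⟨fun a c x => by
    apply toB_injective
    rw [toB_smul, toB_smul', toB_smul, map_smul, mul_smul_comm]⟩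

instance [FiniteDimensional k B] : FiniteDimensional k (RightMod ι) :=
  inferInstanceAs (FiniteDimensional k B)

instance [Nontrivial B] : Nontrivial (RightMod ι) := inferInstanceAs (Nontrivial B)

/-- Left multiplication, as an algebra map into the `k'`-endomorphisms. -/
def leftMul : B →ₐ[k] Module.End k' (RightMod ι) where
  toFun b :=
    { toFun := fun x => ofB ι (b * toB ι x)
      map_add' := fun x y => by
        apply toB_injective
        rw [toB_ofB, toB_add, toB_add, mul_add, toB_ofB, toB_ofB]
      map_smul' := fun c x => by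
        apply toB_injective
        rw [toB_ofB, toB_smul, RingHom.id_apply, toB_smul, toB_ofB, mul_assoc] }
  map_one' := by
    ext x
    apply toB_injective
    change toB ι (ofB ι (1 * toB ι x)) = toB ι x
    rw [toB_ofB, one_mul]
  map_mul' a b := by
    ext x
    apply toB_injective
    change toB ι (ofB ι (a * b * toB ι x)) = toB ι (ofB ι (a * toB ι (ofB ι (b * toB ι x))))
    rw [toB_ofB, toB_ofB, toB_ofB, mul_assoc]
  map_zero' := by
    ext x
    apply toB_injective
    change toB ι (ofB ι (0 * toB ι x)) = toB ι 0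
    rw [toB_ofB, zero_mul]
    rfl
  map_add' a b := by
    ext x
    apply toB_injective
    change toB ι (ofB ι ((a + b) * toB ι x)) =
      toB ι (ofB ι (a * toB ι x) + ofB ι (b * toB ι x))
    rw [toB_ofB, toB_add, toB_ofB, toB_ofB, add_mul]
  commutes' a := by
    ext x
    apply toB_injective
    change toB ι (ofB ι (algebraMap k B a * toB ι x)) = toB ι (a • x)
    rw [toB_ofB, toB_smul', Algebra.smul_def]

/-- The action map `k' ⊗ B → End_{k'}(B)`. -/
noncomputable def action : k' ⊗[k] B →ₐ[k'] Module.End k' (RightMod ι) :=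
  Algebra.TensorProduct.lift (Algebra.ofId k' (Module.End k' (RightMod ι))) (leftMul ι)
    (fun c b => Algebra.commute_algebraMap_left c (leftMul ι b))

end RightMod

/-- A field `k'` embedded in a central simple algebra `B` with `dim B = [k' : k]^2`
splits `B`. -/
theorem splits_of_algHom_of_finrank_eq [Algebra.IsCentral k B] [IsSimpleRing B]
    [FiniteDimensional k B] [FiniteDimensional k k'] (ι : k' →ₐ[k] B)
    (h : Module.finrank k B = Module.finrank k k' ^ 2) : Curves.Splits k B k' := by
  have hn : Module.finrank k k' ≠ 0 := (Module.finrank_pos).ne'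
  haveI : Module.Finite k' (RightMod ι) := Module.Finite.of_restrictScalars_finite k k' _
  have hW : Module.finrank k' (RightMod ι) = Module.finrank k k' := by
    have h1 := Module.finrank_mul_finrank k k' (RightMod ι)
    have h2 : Module.finrank k (RightMod ι) = Module.finrank k B := rfl
    rw [h2, h, pow_two] at h1
    exact Nat.eq_of_mul_eq_mul_left (Nat.pos_of_ne_zero hn) h1
  haveI : IsSimpleRing (k' ⊗[k] B) := isSimpleRing_tensorProduct
  have hinj : Function.Injective (RightMod.action ι) :=
    RingHom.injective (RightMod.action ι).toRingHom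
  have hdim : Module.finrank k' (k' ⊗[k] B) =
      Module.finrank k' (Module.End k' (RightMod ι)) := by
    rw [Module.finrank_baseChange, Module.finrank_linearMap, hW, h, pow_two]
  have hbij : Function.Bijective (RightMod.action ι) :=
    ⟨hinj, (LinearMap.injective_iff_surjective_of_finrank_eq_finrank
      (f := (RightMod.action ι).toLinearMap) hdim).mp hinj⟩
  let b := Module.finBasisOfFinrankEq k' (RightMod ι) hW
  exact ⟨Module.finrank k k', hn,
    ⟨(AlgEquiv.ofBijective (RightMod.action ι) hbij).trans (algEquivMatrix b)⟩⟩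

end SplitByEmbedding

end Groth.Agent.H1.CSA
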