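import Groth.Agent.H1.CSA.SimpleModules
import Mathlib.LinearAlgebra.Matrix.ToLin
import Mathlib.RingTheory.SimpleRing.Matrix
import Mathlib.RingTheory.SimpleRing.Congr
import Mathlib.LinearAlgebra.Dimension.Constructions
import Mathlib.Algebra.Algebra.Opposite

set_option autoImplicit false

namespace Groth.Agent.H1.CSA

section Artinian

variable {R : Type*} [Ring R] [IsSimpleRing R] [IsArtinianRing R]

/-- Over a simple artinian ring, any two simple modules are isomorphic. -/
theorem nonempty_linearEquiv_of_isSimpleModule
    (S S' : Type*) [AddCommGroup S] [Module R S] [AddCommGroup S'] [Module R S']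
    [IsSimpleModule R S] [IsSimpleModule R S'] : Nonempty (S ≃ₗ[R] S') := by
  let S₁ : Submodule R (S × S') := LinearMap.range (LinearMap.inl R S S')
  let S₂ : Submodule R (S × S') := LinearMap.range (LinearMap.inr R S S')
  let e₁ : S ≃ₗ[R] S₁ := LinearEquiv.ofInjective _ LinearMap.inl_injective
  let e₂ : S' ≃ₗ[R] S₂ := LinearEquiv.ofInjective _ LinearMap.inr_injective
  have h1 : IsSimpleModule R S₁ := IsSimpleModule.congr e₁.symm
  have h2 : IsSimpleModule R S₂ := IsSimpleModule.congr e₂.symm
  obtain ⟨e₃⟩ := IsSimpleRing.isIsotypic R (S × S') S₂ S₁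
  exact ⟨e₁.trans (e₃.trans e₂.symm)⟩

/-- Every finitely generated module over a simple artinian ring is a finite power of any
given simple module. -/
theorem exists_linearEquiv_fun (S : Type*) [AddCommGroup S] [Module R S] [IsSimpleModule R S]
    (M : Type*) [AddCommGroup M] [Module R M] [Module.Finite R M] :
    ∃ t : ℕ, Nonempty (M ≃ₗ[R] (Fin t → S)) := by
  have h : IsIsotypicOfType R M S := fun m _ => nonempty_linearEquiv_of_isSimpleModule m S
  exact h.linearEquiv_fun

variable (R) in
theorem exists_simple_ideal : ∃ I : Ideal R, IsSimpleModule R I := by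
  obtain ⟨I, hI⟩ := IsAtomic.exists_atom (Ideal R)
  exact ⟨I, isSimpleModule_iff_isAtom.mpr hI⟩

/-- The endomorphism ring of a nonzero finitely generated module over a simple artinian ring
is simple. -/
theorem isSimpleRing_end (M : Type*) [AddCommGroup M] [Module R M] [Module.Finite R M]
    [Nontrivial M] : IsSimpleRing (Module.End R M) := by
  classical
  obtain ⟨I, hI⟩ := exists_simple_ideal R
  obtain ⟨t, ⟨e⟩⟩ := exists_linearEquiv_fun (R := R) I M
  have ht : Nonempty (Fin t) := by
    rcases Nat.eq_zero_or_pos t with rfl | h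
    · exact (not_subsingleton M e.toEquiv.subsingleton).elim
    · exact ⟨⟨0, h⟩⟩
  have e1 : Module.End R M ≃+* Matrix (Fin t) (Fin t) (Module.End R I) :=
    e.conjRingEquiv.trans (endVecRingEquivMatrixEnd (Fin t) R I)
  exact IsSimpleRing.of_ringEquiv e1.symm inferInstance

end Artinian

section Field

variable {k : Type*} [Field k] {R : Type*} [Ring R] [Algebra k R]

theorem finrank_of_linearEquiv_fun {S M : Type*} [AddCommGroup S] [Module k S] [Module R S]
    [IsScalarTower k R S] [Module.Finite k S]
    [AddCommGroup M] [Module k M] [Module R M] [IsScalarTower k R M]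
    {t : ℕ} (e : M ≃ₗ[R] (Fin t → S)) :
    Module.finrank k M = t * Module.finrank k S ∧
    Module.finrank k (Module.End R M) = t * t * Module.finrank k (Module.End R S) := by
  constructor
  · rw [(e.restrictScalars k).finrank_eq, Module.finrank_pi_fintype]
    simp
  · have e1 : Module.End R M ≃ₐ[k] Matrix (Fin t) (Fin t) (Module.End R S) :=
      (e.conjAlgEquiv k).trans (endVecAlgEquivMatrixEnd (Fin t) k R S)
    rw [e1.toLinearEquiv.finrank_eq, Module.finrank_matrix]
    simp

variable [IsSimpleRing R] [FiniteDimensional k R]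

/-- For a finite-dimensional simple `k`-algebra `R` and a finite-dimensional `R`-module `M`:
`dim End_R(M) * dim R = (dim M)^2`. -/
theorem finrank_end_mul_finrank (M : Type*) [AddCommGroup M] [Module k M] [Module R M]
    [IsScalarTower k R M] [FiniteDimensional k M] :
    Module.finrank k (Module.End R M) * Module.finrank k R = Module.finrank k M ^ 2 := by
  have : IsArtinianRing R := IsArtinianRing.of_finite k R
  have : Module.Finite R M := Module.Finite.of_restrictScalars_finite k R M
  obtain ⟨I, hI⟩ := exists_simple_ideal R
  obtain ⟨t, ⟨e⟩⟩ := exists_linearEquiv_fun (R := R) I M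
  obtain ⟨n, ⟨e'⟩⟩ := exists_linearEquiv_fun (R := R) I R
  have hfI : Module.Finite k I :=
    Module.Finite.of_injective (I.subtype.restrictScalars k) Subtype.val_injective
  obtain ⟨h1, h2⟩ := finrank_of_linearEquiv_fun (k := k) e
  obtain ⟨h3, h4⟩ := finrank_of_linearEquiv_fun (k := k) e'
  have h5 : Module.finrank k (Module.End R R) = Module.finrank k R := by
    rw [← (AlgEquiv.moduleEndSelf k : Rᵐᵒᵖ ≃ₐ[k] Module.End R R).toLinearEquiv.finrank_eq]
    exact (MulOpposite.opLinearEquiv k).symm.finrank_eq
  have hn : 0 < n := by
    rcases Nat.eq_zero_or_pos n with rfl | h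
    · have h0 : Module.finrank k R = 0 := by rw [h3]; simp
      have : 0 < Module.finrank k R := Module.finrank_pos
      omega
    · exact h
  have hs : Module.finrank k I = n * Module.finrank k (Module.End R I) := by
    have : n * Module.finrank k I = n * (n * Module.finrank k (Module.End R I)) := by
      rw [← h3, ← h5, h4]; ring
    exact Nat.eq_of_mul_eq_mul_left hn this
  rw [h2, h1, h3, hs]
  ring

end Field

end Groth.Agent.H1.CSA
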