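import Groth.Agent.H1.CSA.BrauerEq
import Groth.Prelude.Def_GSzCSA
import Mathlib.LinearAlgebra.TensorPower.Basic
import Mathlib.RingTheory.PiTensorProduct

/-!
# Tensor powers of algebras: `CSAGal.tpow k A n`
-/

set_option autoImplicit false
open scoped TensorProduct
open PiTensorProduct

namespace Groth.Agent.H1.CSA

section General

variable (k : Type*) [Field k]

/-- A linear map out of a `PiTensorProduct` of algebras that is multiplicative on pure tensors is
multiplicative. -/
theorem map_mul_of_tprod {ι : Type*} {A : ι → Type*} [∀ i, Ring (A i)] [∀ i, Algebra k (A i)]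
    {B : Type*} [Ring B] [Algebra k B] (L : (⨂[k] i, A i) →ₗ[k] B)
    (h : ∀ f g : Π i, A i, L (tprod k (f * g)) = L (tprod k f) * L (tprod k g))
    (x y : ⨂[k] i, A i) : L (x * y) = L x * L y := by
  induction x using PiTensorProduct.induction_on with
  | add x₁ x₂ h₁ h₂ => rw [add_mul, map_add, map_add, add_mul, h₁, h₂]
  | smul_tprod r f =>
  induction y using PiTensorProduct.induction_on with
  | add y₁ y₂ h₁ h₂ => rw [mul_add, map_add, map_add, mul_add, h₁, h₂]
  | smul_tprod s g =>
    rw [PiTensorProduct.smul_tprod_mul_smul_tprod, map_smul, map_smul, map_smul, h,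
      smul_mul_smul_comm]

end General

section TPow

variable (k : Type*) [Field k] (A : Type*) [Ring A] [Algebra k A]

/-- `A^{⊗0} ≃ k`. -/
noncomputable def tpowZero : CSAGal.tpow k A 0 ≃ₐ[k] k :=
  AlgEquiv.ofLinearEquiv (isEmptyEquiv (Fin 0))
    (by rw [PiTensorProduct.one_def, isEmptyEquiv_apply_tprod])
    (fun x y => map_mul_of_tprod k
      ((isEmptyEquiv (Fin 0) : CSAGal.tpow k A 0 ≃ₗ[k] k) : CSAGal.tpow k A 0 →ₗ[k] k)
      (fun f g => by simp) x y)

/-- `A^{⊗1} ≃ A`. -/
noncomputable def tpowOne : CSAGal.tpow k A 1 ≃ₐ[k] A :=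
  AlgEquiv.ofLinearEquiv (subsingletonEquiv (0 : Fin 1))
    (by rw [PiTensorProduct.one_def, subsingletonEquiv_apply_tprod]; rfl)
    (fun x y => map_mul_of_tprod k
      ((subsingletonEquiv (0 : Fin 1) : CSAGal.tpow k A 1 ≃ₗ[k] A) : CSAGal.tpow k A 1 →ₗ[k] A)
      (fun f g => by simp [subsingletonEquiv_apply_tprod]) x y)

variable {A}

theorem mulEquiv_tprod {n m : ℕ} (a : Fin n → A) (b : Fin m → A) :
    (TensorPower.mulEquiv : _ ≃ₗ[k] CSAGal.tpow k A (n + m)) (tprod k a ⊗ₜ[k] tprod k b) =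
      tprod k (Fin.append a b) :=
  (TensorPower.gMul_def (tprod k a) (tprod k b)).symm.trans (TensorPower.tprod_mul_tprod k a b)

theorem append_mul {n m : ℕ} (f₁ f₂ : Fin n → A) (g₁ g₂ : Fin m → A) :
    Fin.append (f₁ * f₂) (g₁ * g₂) = Fin.append f₁ g₁ * Fin.append f₂ g₂ := by
  funext i
  refine Fin.addCases (fun j => ?_) (fun j => ?_) i
  · simp only [Pi.mul_apply, Fin.append_left]
  · simp only [Pi.mul_apply, Fin.append_right]

theorem append_one {n m : ℕ} :
    Fin.append (1 : Fin n → A) (1 : Fin m → A) = 1 := by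
  funext i
  refine Fin.addCases (fun j => ?_) (fun j => ?_) i
  · simp only [Pi.one_apply, Fin.append_left]
  · simp only [Pi.one_apply, Fin.append_right]

variable (A)

theorem mulEquiv_mul (n m : ℕ) (a₁ a₂ : CSAGal.tpow k A n) (b₁ b₂ : CSAGal.tpow k A m) :
    (TensorPower.mulEquiv : _ ≃ₗ[k] CSAGal.tpow k A (n + m)) ((a₁ * a₂) ⊗ₜ[k] (b₁ * b₂)) =
      (TensorPower.mulEquiv : _ ≃ₗ[k] CSAGal.tpow k A (n + m)) (a₁ ⊗ₜ[k] b₁) *
        (TensorPower.mulEquiv : _ ≃ₗ[k] CSAGal.tpow k A (n + m)) (a₂ ⊗ₜ[k] b₂) := by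
  induction a₁ using PiTensorProduct.induction_on with
  | add x y hx hy => simp only [add_mul, TensorProduct.add_tmul, map_add, hx, hy]
  | smul_tprod r₁ f₁ =>
  induction a₂ using PiTensorProduct.induction_on with
  | add x y hx hy => simp only [mul_add, TensorProduct.add_tmul, map_add, hx, hy]
  | smul_tprod r₂ f₂ =>
  induction b₁ using PiTensorProduct.induction_on with
  | add x y hx hy => simp only [add_mul, TensorProduct.tmul_add, map_add, hx, hy]
  | smul_tprod s₁ g₁ =>
  induction b₂ using PiTensorProduct.induction_on with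
  | add x y hx hy => simp only [mul_add, TensorProduct.tmul_add, map_add, hx, hy]
  | smul_tprod s₂ g₂ =>
    rw [PiTensorProduct.smul_tprod_mul_smul_tprod, PiTensorProduct.smul_tprod_mul_smul_tprod]
    simp only [← TensorProduct.smul_tmul', TensorProduct.tmul_smul, map_smul, mulEquiv_tprod,
      smul_mul_assoc, mul_smul_comm, PiTensorProduct.tprod_mul_tprod, smul_smul, append_mul]
    congr 1
    ring

/-- `A^{⊗n} ⊗ A^{⊗m} ≃ A^{⊗(n+m)}`. -/
noncomputable def tpowAdd (n m : ℕ) :
    CSAGal.tpow k A n ⊗[k] CSAGal.tpow k A m ≃ₐ[k] CSAGal.tpow k A (n + m) :=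
  Algebra.TensorProduct.algEquivOfLinearEquivTensorProduct
    (TensorPower.mulEquiv : _ ≃ₗ[k] CSAGal.tpow k A (n + m))
    (mulEquiv_mul k A n m)
    (by
      simp only [PiTensorProduct.one_def]
      rw [mulEquiv_tprod, append_one])

/-- `A^{⊗(n+1)} ≃ A^{⊗n} ⊗ A`. -/
noncomputable def tpowSucc (n : ℕ) :
    CSAGal.tpow k A (n + 1) ≃ₐ[k] CSAGal.tpow k A n ⊗[k] A :=
  (tpowAdd k A n 1).symm.trans
    (Algebra.TensorProduct.congr (AlgEquiv.refl : CSAGal.tpow k A n ≃ₐ[k] CSAGal.tpow k A n)
      (tpowOne k A))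

section CSA

variable [Algebra.IsCentral k A] [IsSimpleRing A] [FiniteDimensional k A]

theorem tpow_props (n : ℕ) :
    Algebra.IsCentral k (CSAGal.tpow k A n) ∧ IsSimpleRing (CSAGal.tpow k A n) ∧
      FiniteDimensional k (CSAGal.tpow k A n) ∧
      Module.finrank k (CSAGal.tpow k A n) = Module.finrank k A ^ n := by
  induction n with
  | zero =>
    refine ⟨isCentral_of_algEquiv (tpowZero k A).symm,
      IsSimpleRing.of_ringEquiv (tpowZero k A).symm.toRingEquiv inferInstance,
      Module.Finite.equiv (tpowZero k A).symm.toLinearEquiv, ?_⟩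
    rw [(tpowZero k A).toLinearEquiv.finrank_eq, Module.finrank_self, pow_zero]
  | succ n ih =>
    obtain ⟨h1, h2, h3, h4⟩ := ih
    have e := tpowSucc k A n
    have i1 : Algebra.IsCentral k (CSAGal.tpow k A n ⊗[k] A) := isCentral_tensorProduct
    have i2 : IsSimpleRing (CSAGal.tpow k A n ⊗[k] A) := isSimpleRing_tensorProduct
    refine ⟨isCentral_of_algEquiv e.symm, IsSimpleRing.of_ringEquiv e.symm.toRingEquiv i2,
      Module.Finite.equiv e.symm.toLinearEquiv, ?_⟩
    rw [e.toLinearEquiv.finrank_eq, Module.finrank_tensorProduct, h4, pow_succ]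

instance tpow_isCentral (n : ℕ) : Algebra.IsCentral k (CSAGal.tpow k A n) := (tpow_props k A n).1
instance tpow_isSimpleRing (n : ℕ) : IsSimpleRing (CSAGal.tpow k A n) := (tpow_props k A n).2.1
instance tpow_finite (n : ℕ) : FiniteDimensional k (CSAGal.tpow k A n) := (tpow_props k A n).2.2.1

theorem finrank_tpow (n : ℕ) :
    Module.finrank k (CSAGal.tpow k A n) = Module.finrank k A ^ n := (tpow_props k A n).2.2.2

end CSA

variable {k A}
variable {k' : Type*} [Field k'] [Algebra k k']

theorem splits_tpow_zero : Curves.Splits k (CSAGal.tpow k A 0) k' :=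
  splits_of_algEquiv (tpowZero k A).symm (splits_extend splits_self)

theorem splits_tpow_one_iff : Curves.Splits k (CSAGal.tpow k A 1) k' ↔ Curves.Splits k A k' :=
  ⟨splits_of_algEquiv (tpowOne k A), splits_of_algEquiv (tpowOne k A).symm⟩

theorem splits_tpow_add {n m : ℕ} (h1 : Curves.Splits k (CSAGal.tpow k A n) k')
    (h2 : Curves.Splits k (CSAGal.tpow k A m) k') :
    Curves.Splits k (CSAGal.tpow k A (n + m)) k' :=
  splits_of_algEquiv (tpowAdd k A n m) (splits_tensor h1 h2)

theorem splits_tpow_mul {n : ℕ} (h : Curves.Splits k (CSAGal.tpow k A n) k') (c : ℕ) :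
    Curves.Splits k (CSAGal.tpow k A (n * c)) k' := by
  induction c with
  | zero => exact splits_tpow_zero
  | succ c ih => exact splits_tpow_add ih h

theorem splits_tpow_of_splits (h : Curves.Splits k A k') (n : ℕ) :
    Curves.Splits k (CSAGal.tpow k A n) k' := by
  have := splits_tpow_mul (splits_tpow_one_iff.mpr h) n
  rwa [one_mul] at this

theorem splits_tpow_sub [Algebra.IsCentral k A] [IsSimpleRing A] [FiniteDimensional k A]
    {n m : ℕ} (h : Curves.Splits k (CSAGal.tpow k A (n + m)) k)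
    (h1 : Curves.Splits k (CSAGal.tpow k A n) k) : Curves.Splits k (CSAGal.tpow k A m) k :=
  splits_of_tensor_of_splits_left (splits_of_algEquiv (tpowAdd k A n m).symm h) h1

theorem BrEq.tpow {B : Type*} [Ring B] [Algebra k B] (h : BrEq k A B) (n : ℕ) :
    BrEq k (CSAGal.tpow k A n) (CSAGal.tpow k B n) := by
  induction n with
  | zero => exact BrEq.of_algEquiv ((tpowZero k A).trans (tpowZero k B).symm)
  | succ n ih =>
    exact (BrEq.of_algEquiv (tpowSucc k A n)).trans
      ((ih.tensor h).trans (BrEq.of_algEquiv (tpowSucc k B n).symm))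

theorem brEq_tpow_tpow (r e : ℕ) :
    BrEq k (CSAGal.tpow k (CSAGal.tpow k A r) e) (CSAGal.tpow k A (r * e)) := by
  induction e with
  | zero => exact BrEq.of_algEquiv ((tpowZero k (CSAGal.tpow k A r)).trans (tpowZero k A).symm)
  | succ e ih =>
    exact (BrEq.of_algEquiv (tpowSucc k (CSAGal.tpow k A r) e)).trans
      ((ih.tensor_right _).trans (BrEq.of_algEquiv (tpowAdd k A (r * e) r)))

/-- For an algebra of period `p`, the `n`-th tensor power splits iff `p ∣ n`. -/
theorem splits_tpow_iff_dvd [Algebra.IsCentral k A] [IsSimpleRing A] [FiniteDimensional k A]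
    {p : ℕ} (hp : CSAGal.IsPeriod k A p) (n : ℕ) :
    Curves.Splits k (CSAGal.tpow k A n) k ↔ p ∣ n := by
  obtain ⟨hp0, hps, hmin⟩ := hp
  constructor
  · intro h
    have hq : Curves.Splits k (CSAGal.tpow k A (p * (n / p))) k := splits_tpow_mul hps _
    have hn : p * (n / p) + n % p = n := Nat.div_add_mod n p
    rw [← hn] at h
    have hr := splits_tpow_sub h hq
    by_contra hdvd
    have hpos : 0 < n % p := Nat.pos_of_ne_zero (fun h0 => hdvd (Nat.dvd_of_mod_eq_zero h0))
    exact hmin (n % p) hpos (Nat.mod_lt n hp0) hr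
  · rintro ⟨c, rfl⟩
    exact splits_tpow_mul hps c

end TPow

end Groth.Agent.H1.CSA
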