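import Groth.Agent.H1.CSA.TensorIdeal
import Mathlib.RingTheory.TwoSidedIdeal.Kernel
import Mathlib.LinearAlgebra.Matrix.ToLin
import Mathlib.LinearAlgebra.FreeModule.Finite.Matrix
import Mathlib.LinearAlgebra.FiniteDimensional.Lemmas
import Mathlib.LinearAlgebra.Dimension.Free
import Mathlib.LinearAlgebra.Dimension.Constructions
import Mathlib.RingTheory.TensorProduct.Maps
import Mathlib.RingTheory.TensorProduct.Finite

set_option autoImplicit false
universe u
open scoped TensorProduct

namespace Groth.Agent.H1.CSA

/-- An injectivity criterion for ring maps out of `B ⊗ A` with `A` central simple: it suffices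
to be injective on `B ⊗ 1`. -/
theorem injective_of_injective_on_left {k : Type*} [Field k] {B A C : Type*} [Ring B]
    [Algebra k B] [Ring A] [Algebra k A] [IsSimpleRing A] [Algebra.IsCentral k A] [Ring C]
    (Φ : B ⊗[k] A →+* C) (h : ∀ b : B, Φ (b ⊗ₜ[k] (1 : A)) = 0 → b = 0) :
    Function.Injective Φ := by
  rw [← TwoSidedIdeal.ker_eq_bot]
  rw [eq_baseIdeal (TwoSidedIdeal.ker Φ), eq_bot_iff]
  unfold baseIdeal
  rw [TwoSidedIdeal.span_le]
  rintro _ ⟨b, hb, rfl⟩
  have hb0 : b = 0 := h b ((TwoSidedIdeal.mem_ker Φ).mp hb)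
  subst hb0
  change (0 : B) ⊗ₜ[k] (1 : A) ∈ (⊥ : TwoSidedIdeal (B ⊗[k] A))
  rw [TensorProduct.zero_tmul]
  exact TwoSidedIdeal.zero_mem _

theorem tensor_equiv_matrix_of_free_right_module (k : Type u) [Field k] (A : Type u) [Ring A]
    [Algebra k A] [Algebra.IsCentral k A] [IsSimpleRing A] [FiniteDimensional k A]
    (L : Type u) [CommRing L] [Algebra k L] (ι : L →ₐ[k] A) (hι : Function.Injective ι)
    [Module L A] (hmod : ∀ (l : L) (a : A), l • a = a * ι l) [Module.Free L A] (r : ℕ)
    (hA : Module.finrank k A = r ^ 2) (hrank : Module.finrank L A = r) :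
    Nonempty ((L ⊗[k] A) ≃ₐ[L] Matrix (Fin r) (Fin r) L) := by
  haveI : Nontrivial L := ι.toRingHom.domain_nontrivial
  haveI : IsScalarTower k L A := ⟨fun c l a => by
    rw [hmod, hmod, map_smul, mul_smul_comm]⟩
  haveI : SMulCommClass L k A := ⟨fun l c a => by
    rw [hmod, hmod, smul_mul_assoc]⟩
  haveI : FiniteDimensional k L := Module.Finite.of_injective ι.toLinearMap hι
  haveI : Module.Finite L A := Module.Finite.of_restrictScalars_finite k L A
  let b : Module.Basis (Fin r) L A := Module.finBasisOfFinrankEq L A hrank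
  let leftMul : A →ₐ[k] Module.End L A :=
    { toFun := fun a =>
        { toFun := fun x => a * x
          map_add' := mul_add a
          map_smul' := fun l x => by
            rw [RingHom.id_apply, hmod, hmod, mul_assoc] }
      map_one' := by ext x; exact one_mul x
      map_mul' := fun a a' => by ext x; exact mul_assoc a a' x
      map_zero' := by ext x; exact zero_mul x
      map_add' := fun a a' => by ext x; exact add_mul a a' x
      commutes' := fun c => by
        ext x
        change algebraMap k A c * x = c • x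
        rw [Algebra.smul_def] }
  let Φ : L ⊗[k] A →ₐ[L] Module.End L A :=
    Algebra.TensorProduct.lift (Algebra.ofId L (Module.End L A)) leftMul
      (fun l a => Algebra.commute_algebraMap_left l (leftMul a))
  have hinj : Function.Injective Φ := by
    apply injective_of_injective_on_left (Φ := Φ.toRingHom)
    intro l hl
    have h1 : Φ (l ⊗ₜ[k] (1 : A)) (1 : A) = 0 := by
      have : Φ (l ⊗ₜ[k] (1 : A)) = 0 := hl
      rw [this]
      rfl
    have h2 : Φ (l ⊗ₜ[k] (1 : A)) (1 : A) = ι l := by
      simp only [Φ, Algebra.TensorProduct.lift_tmul, Algebra.ofId_apply, map_one, mul_one,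
        Module.algebraMap_end_apply, hmod, one_mul]
    rw [h2] at h1
    exact hι (by rw [h1, map_zero])
  have e2 : Module.End L A ≃ₐ[L] Matrix (Fin r) (Fin r) L := algEquivMatrix b
  haveI : FiniteDimensional k (Matrix (Fin r) (Fin r) L) := inferInstance
  haveI : FiniteDimensional k (Module.End L A) :=
    Module.Finite.equiv (e2.toLinearEquiv.restrictScalars k).symm
  have hdim : Module.finrank k (L ⊗[k] A) = Module.finrank k (Module.End L A) := by
    rw [(e2.toLinearEquiv.restrictScalars k).finrank_eq, Module.finrank_matrix,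
      Module.finrank_tensorProduct, hA]
    simp only [Fintype.card_fin]
    ring
  have hbij : Function.Bijective Φ :=
    ⟨hinj, (LinearMap.injective_iff_surjective_of_finrank_eq_finrank
      (f := (Φ.restrictScalars k).toLinearMap) hdim).mp hinj⟩
  exact ⟨(AlgEquiv.ofBijective Φ hbij).trans e2⟩

end Groth.Agent.H1.CSA
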