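import Groth.Agent.H1.CSA.MatrixSimple
import Mathlib.LinearAlgebra.Dimension.Free
import Mathlib.LinearAlgebra.Dimension.Constructions

set_option autoImplicit false
open Matrix.Module

namespace Groth.Agent.H1.CSA

/-- If a finite-dimensional division algebra `D` over `k` maps to `n × n` matrices over a
finite extension `k'`, then `dim_k D` divides `n * [k' : k]`. -/
theorem finrank_dvd_of_algHom_matrix {k D k' : Type*} [Field k] [DivisionRing D] [Algebra k D]
    [Field k'] [Algebra k k'] [FiniteDimensional k k'] (n : ℕ)
    (φ : D →ₐ[k] Matrix (Fin n) (Fin n) k') :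
    Module.finrank k D ∣ n * Module.finrank k k' := by
  letI : Module D (Fin n → k') := Module.compHom _ (φ : D →+* Matrix (Fin n) (Fin n) k')
  have hsmul : ∀ (d : D) (v : Fin n → k'), d • v = φ d • v := fun _ _ => rfl
  haveI : IsScalarTower k D (Fin n → k') :=
    ⟨fun c d v => by rw [hsmul, hsmul, map_smul, smul_assoc]⟩
  have h := Module.finrank_mul_finrank k D (Fin n → k')
  rw [Module.finrank_pi_fintype] at h
  simp only [Finset.sum_const, Finset.card_univ, Fintype.card_fin, smul_eq_mul] at h
  exact ⟨_, h.symm⟩

end Groth.Agent.H1.CSA
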