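import Groth.Agent.H1.CSA.SplitBrauer
import Groth.Agent.H1.CSA.SplitDegree

set_option autoImplicit false
universe u v w
open scoped TensorProduct

namespace Groth.Agent.H1.CSA

/-- Descent of splitting along an intermediate field. -/
theorem splits_descend {k K F A : Type*} [Field k] [Field K] [Algebra k K] [Field F]
    [Algebra k F] [Algebra K F] [IsScalarTower k K F] [Ring A] [Algebra k A]
    (h : Curves.Splits K (K ⊗[k] A) F) : Curves.Splits k A F := by
  obtain ⟨N, hN, ⟨g⟩⟩ := h
  exact ⟨N, hN, ⟨((Algebra.TensorProduct.congr (Algebra.TensorProduct.rid K F F)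
      (AlgEquiv.refl : A ≃ₐ[k] A)).symm.trans
    (Algebra.TensorProduct.assoc k K F F K A)).trans g⟩⟩

/-- The degree of a division algebra divides the degree of any finite splitting field. -/
theorem dvd_finrank_of_splits {k D F : Type*} [Field k] [DivisionRing D] [Algebra k D]
    [FiniteDimensional k D] [Field F] [Algebra k F] [FiniteDimensional k F] (d : ℕ)
    (hd : Module.finrank k D = d ^ 2) (hs : Curves.Splits k D F) : d ∣ Module.finrank k F := by
  obtain ⟨n, hn, ⟨g⟩⟩ := hs
  have hdim : Module.finrank F (F ⊗[k] D) = Module.finrank k D := Module.finrank_baseChange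
  have hn2 : n * n = d * d := by
    rw [← pow_two d, ← hd, ← hdim, g.toLinearEquiv.finrank_eq, Module.finrank_matrix]
    simp
  have hnd : n = d := Nat.mul_self_inj.mp hn2
  have hdpos : 0 < d := by
    rcases Nat.eq_zero_or_pos d with h0 | h0
    · have : 0 < Module.finrank k D := Module.finrank_pos
      rw [hd, h0] at this
      simp at this
    · exact h0
  let φ : D →ₐ[k] Matrix (Fin n) (Fin n) F :=
    ((g.restrictScalars k).toAlgHom).comp Algebra.TensorProduct.includeRight
  have h := finrank_dvd_of_algHom_matrix n φ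
  rw [hd, hnd, pow_two] at h
  exact Nat.dvd_of_mul_dvd_mul_left hdpos h

/-- Behaviour of the index under a finite base field extension. -/
theorem index_baseChange (k : Type u) [Field k] (K : Type u) [Field K] [Algebra k K]
    [FiniteDimensional k K]
    (A : Type v) [Ring A] [Algebra k A] [Algebra.IsCentral k A] [IsSimpleRing A]
    [FiniteDimensional k A]
    (D : Type v) [DivisionRing D] [Algebra k D] [Algebra.IsCentral k D] [FiniteDimensional k D]
    (m : ℕ) (iso : A ≃ₐ[k] Matrix (Fin m) (Fin m) D) (d : ℕ) (hd : Module.finrank k D = d ^ 2)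
    (D' : Type w) [DivisionRing D'] [Algebra K D'] [Algebra.IsCentral K D']
    [FiniteDimensional K D']
    (m' : ℕ) (iso' : (K ⊗[k] A) ≃ₐ[K] Matrix (Fin m') (Fin m') D') (d' : ℕ)
    (hd' : Module.finrank K D' = d' ^ 2) : d' ∣ d ∧ d ∣ Module.finrank k K * d' := by
  have hm : m ≠ 0 := by
    rintro rfl
    haveI : Subsingleton A := iso.toEquiv.subsingleton
    exact not_subsingleton A inferInstance
  haveI : IsSimpleRing (K ⊗[k] A) := isSimpleRing_tensorProduct
  have hm' : m' ≠ 0 := by
    rintro rfl
    haveI : Subsingleton (K ⊗[k] A) := iso'.toEquiv.subsingleton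
    exact not_subsingleton (K ⊗[k] A) inferInstance
  constructor
  · -- `d' ∣ d`
    haveI : Algebra.IsCentral K (K ⊗[k] D) := isCentral_baseChange K
    haveI : IsSimpleRing (K ⊗[k] D) := isSimpleRing_tensorProduct
    haveI : IsArtinianRing (K ⊗[k] D) := IsArtinianRing.of_finite K _
    obtain ⟨s, hs, Δ, _, _, _, ⟨f⟩⟩ :=
      IsSimpleRing.exists_algEquiv_matrix_divisionRing_finite K (K ⊗[k] D)
    let e1 : Matrix (Fin m') (Fin m') D' ≃ₐ[K] Matrix (Fin (m * s)) (Fin (m * s)) Δ :=
      iso'.symm.trans ((Algebra.TensorProduct.congr (AlgEquiv.refl : K ≃ₐ[K] K) iso).trans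
        ((matrixBaseChange k K D (Fin m)).trans (f.mapMatrix.trans
          ((Matrix.compAlgEquiv (Fin m) (Fin s) Δ K).trans
            (Matrix.reindexAlgEquiv K Δ finProdFinEquiv)))))
    obtain ⟨h⟩ := nonempty_algEquiv_of_matrix_algEquiv K D' Δ m' (m * s) hm'
      (Nat.mul_ne_zero hm hs.out) e1
    have h1 : Module.finrank K (K ⊗[k] D) = d ^ 2 := by
      rw [Module.finrank_baseChange, hd]
    have h2 : Module.finrank K (K ⊗[k] D) = s * s * d' ^ 2 := by
      rw [f.toLinearEquiv.finrank_eq, Module.finrank_matrix, ← h.toLinearEquiv.finrank_eq, hd']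
      simp
    have h3 : d * d = (s * d') * (s * d') := by
      have : d ^ 2 = s * s * d' ^ 2 := h1.symm.trans h2
      rw [pow_two, pow_two] at this
      rw [this]
      ring
    exact ⟨s, by rw [Nat.mul_self_inj.mp h3, mul_comm]⟩
  · -- `d ∣ [K : k] * d'`
    obtain ⟨F, hFc, hFmax, _⟩ := exists_maximal_comm_separable (k := K) (D := D')
    have hFdim := finrank_eq_sq_of_maximal_comm F hFc hFmax
    have hFd' : Module.finrank K ↥F = d' := by
      rw [hd'] at hFdim
      exact (Nat.pow_left_injective (n := 2) (by norm_num) hFdim).symm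
    letI instF : Field ↥F := fieldOfComm F hFc
    letI algkF : Algebra k ↥F := Algebra.compHom ↥F (algebraMap k K)
    haveI : IsScalarTower k K ↥F := IsScalarTower.of_algebraMap_eq (fun x => rfl)
    haveI : FiniteDimensional k ↥F := Module.Finite.trans K ↥F
    have s1 : Curves.Splits K D' ↥F := splits_of_algHom_of_finrank_eq F.val hFdim
    have s2 : Curves.Splits K (K ⊗[k] A) ↥F :=
      splits_of_algEquiv iso'.symm (splits_matrix m' hm' s1)
    have s3 : Curves.Splits k A ↥F := splits_descend s2
    have s4 : Curves.Splits k D ↥F :=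
      splits_of_splits_matrix m hm (splits_of_algEquiv iso s3)
    have h := dvd_finrank_of_splits d hd s4
    rw [← Module.finrank_mul_finrank k K ↥F, hFd'] at h
    exact h

end Groth.Agent.H1.CSA
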