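import Groth.Agent.H1.CSA.SeparableSubfield
import Groth.Agent.H1.CSA.Splits
import Mathlib.Algebra.Central.Matrix
import Mathlib.RingTheory.SimpleModule.WedderburnArtin
import Mathlib.FieldTheory.IsAlgClosed.AlgebraicClosure
import Mathlib.FieldTheory.IsSepClosed
import Mathlib.FieldTheory.Normal.Closure
import Mathlib.FieldTheory.Galois.Basic

set_option autoImplicit false
universe u v

namespace Groth.Agent.H1.CSA

/-- If a matrix algebra of positive size over `D` is central, so is `D`. -/
theorem isCentral_of_matrix (k : Type*) [Field k] (D : Type*) [Ring D] [Algebra k D] (r : ℕ)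
    [NeZero r] [h : Algebra.IsCentral k (Matrix (Fin r) (Fin r) D)] : Algebra.IsCentral k D where
  out := by
    intro z hz
    have hz' : Matrix.scalarAlgHom (Fin r) k z ∈ Subalgebra.center k (Matrix (Fin r) (Fin r) D) := by
      rw [Matrix.subalgebraCenter_eq_scalarAlgHom_map]
      exact ⟨z, hz, rfl⟩
    obtain ⟨c, hc⟩ := (Algebra.IsCentral.mem_center_iff k).mp hz'
    rw [Algebra.mem_bot]
    refine ⟨c, ?_⟩
    have := congrFun (congrFun hc 0) 0
    simpa [Matrix.algebraMap_matrix_apply] using this.symm

variable {k : Type u} [Field k]

/-- In a finite central division algebra, a maximal commutative subalgebra `L` satisfies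
`dim D = (dim L)^2`. -/
theorem finrank_eq_sq_of_maximal_comm {D : Type v} [DivisionRing D] [Algebra k D]
    [Algebra.IsCentral k D] [FiniteDimensional k D]
    (L : Subalgebra k D) (hcomm : ∀ x ∈ L, ∀ y ∈ L, x * y = y * x)
    (hmax : ∀ L' : Subalgebra k D, (∀ x ∈ L', ∀ y ∈ L', x * y = y * x) → L ≤ L' → L' = L) :
    Module.finrank k D = Module.finrank k L ^ 2 := by
  have hs : IsSimpleRing L := by
    let _ : DivisionRing L := divisionRingOfFiniteDimensional k L
    exact DivisionRing.isSimpleRing L
  have hC : Subalgebra.centralizer k (L : Set D) = L := by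
    apply le_antisymm
    · intro x hx
      rw [Subalgebra.mem_centralizer_iff] at hx
      have hcomm' : ∀ a ∈ ((L : Set D) ∪ {x}), ∀ b ∈ ((L : Set D) ∪ {x}), a * b = b * a := by
        rintro a (ha | ha) b (hb | hb)
        · exact hcomm a ha b hb
        · rw [Set.mem_singleton_iff] at hb
          subst hb
          exact hx a ha
        · rw [Set.mem_singleton_iff] at ha
          subst ha
          exact (hx b hb).symm
        · rw [Set.mem_singleton_iff] at ha hb
          subst ha
          subst hb
          rfl
      have hL' := Algebra.isMulCommutative_adjoin k hcomm'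
      have hle : L ≤ Algebra.adjoin k ((L : Set D) ∪ {x}) :=
        fun y hy => Algebra.subset_adjoin (Or.inl hy)
      have h := hmax (Algebra.adjoin k ((L : Set D) ∪ {x}))
        (fun a ha b hb => setLike_mul_comm ha hb) hle
      rw [← h]
      exact Algebra.subset_adjoin (Or.inr rfl)
    · intro x hx
      rw [Subalgebra.mem_centralizer_iff]
      intro g hg
      exact hcomm g hg x hx
  have h := finrank_centralizer k D L
  rw [hC] at h
  rw [h, pow_two]

/-- A finite central division algebra is split by a finite separable extension living in the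
universe of the base field. -/
theorem exists_separable_splitting_field_divisionRing (D : Type v) [DivisionRing D] [Algebra k D]
    [Algebra.IsCentral k D] [FiniteDimensional k D] :
    ∃ (k' : Type u) (_ : Field k') (_ : Algebra k k'), FiniteDimensional k k' ∧
      Algebra.IsSeparable k k' ∧ Curves.Splits k D k' := by
  obtain ⟨L, hLc, hLmax, hLsep⟩ := exists_maximal_comm_separable (k := k) (D := D)
  have hdim := finrank_eq_sq_of_maximal_comm L hLc hLmax
  letI instL : Field ↥L := fieldOfComm L hLc
  let f : ↥L →ₐ[k] AlgebraicClosure k := IsAlgClosed.lift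
  let e : ↥L ≃ₐ[k] ↥f.fieldRange := f.equivFieldRange
  let ι : ↥f.fieldRange →ₐ[k] D := L.val.comp e.symm.toAlgHom
  haveI : FiniteDimensional k ↥f.fieldRange := Module.Finite.equiv e.toLinearEquiv
  haveI : Algebra.IsSeparable k ↥f.fieldRange := AlgEquiv.Algebra.isSeparable e
  have hdim' : Module.finrank k D = Module.finrank k ↥f.fieldRange ^ 2 := by
    rw [hdim, e.toLinearEquiv.finrank_eq]
  exact ⟨↥f.fieldRange, inferInstance, inferInstance, inferInstance, inferInstance,
    splits_of_algHom_of_finrank_eq ι hdim'⟩

/-- Every finite central simple algebra is split by a finite separable extension. -/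
theorem exists_separable_splitting_field (A : Type v) [Ring A] [Algebra k A]
    [Algebra.IsCentral k A] [IsSimpleRing A] [FiniteDimensional k A] :
    ∃ (k' : Type u) (_ : Field k') (_ : Algebra k k'), FiniteDimensional k k' ∧
      Algebra.IsSeparable k k' ∧ Curves.Splits k A k' := by
  haveI : IsArtinianRing A := IsArtinianRing.of_finite k A
  obtain ⟨r, hr, D, _, _, _, ⟨f⟩⟩ := IsSimpleRing.exists_algEquiv_matrix_divisionRing_finite k A
  haveI : Algebra.IsCentral k (Matrix (Fin r) (Fin r) D) := isCentral_of_algEquiv f
  haveI : Algebra.IsCentral k D := isCentral_of_matrix k D r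
  obtain ⟨k', i1, i2, h1, h2, h3⟩ := exists_separable_splitting_field_divisionRing (k := k) D
  exact ⟨k', i1, i2, h1, h2, splits_of_algEquiv f.symm (splits_matrix r hr.out h3)⟩

/-- Every finite central simple algebra is split by the separable closure. -/
theorem splits_separableClosure (A : Type v) [Ring A] [Algebra k A]
    [Algebra.IsCentral k A] [IsSimpleRing A] [FiniteDimensional k A] :
    Curves.Splits k A (SeparableClosure k) := by
  obtain ⟨k', i1, i2, h1, h2, h3⟩ := exists_separable_splitting_field (k := k) A
  let f : k' →ₐ[k] SeparableClosure k := IsSepClosed.lift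
  letI : Algebra k' (SeparableClosure k) := f.toRingHom.toAlgebra
  haveI : IsScalarTower k k' (SeparableClosure k) :=
    IsScalarTower.of_algebraMap_eq (fun x => (f.commutes x).symm)
  exact splits_extend (k' := k') h3

/-- Every finite central simple algebra is split by a finite Galois extension. -/
theorem exists_galois_splitting_field (A : Type v) [Ring A] [Algebra k A]
    [Algebra.IsCentral k A] [IsSimpleRing A] [FiniteDimensional k A] :
    ∃ (k' : Type u) (_ : Field k') (_ : Algebra k k'), FiniteDimensional k k' ∧
      IsGalois k k' ∧ Curves.Splits k A k' := by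
  obtain ⟨k', i1, i2, h1, h2, h3⟩ := exists_separable_splitting_field (k := k) A
  let f : k' →ₐ[k] SeparableClosure k := IsSepClosed.lift
  letI : Algebra k' (SeparableClosure k) := f.toRingHom.toAlgebra
  haveI : IsScalarTower k k' (SeparableClosure k) :=
    IsScalarTower.of_algebraMap_eq (fun x => (f.commutes x).symm)
  exact ⟨↥(IntermediateField.normalClosure k k' (SeparableClosure k)), inferInstance,
    inferInstance, inferInstance, inferInstance, splits_extend (k' := k') h3⟩

end Groth.Agent.H1.CSA
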