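import Groth.Agent.H1.CSA.TPow
import Groth.Agent.H1.CSA.IndexBaseChange
import Groth.Agent.H1.CSA.SplittingField

/-!
# The index of a central simple algebra (`CSAGal.IsIndex`)
-/

set_option autoImplicit false
universe u v
open scoped TensorProduct

namespace Groth.Agent.H1.CSA

section

variable {k : Type u} [Field k]

/-- A finite-dimensional central division algebra has square dimension. -/
theorem exists_finrank_eq_sq (D : Type v) [DivisionRing D] [Algebra k D]
    [Algebra.IsCentral k D] [FiniteDimensional k D] :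
    ∃ d : ℕ, 0 < d ∧ Module.finrank k D = d ^ 2 := by
  obtain ⟨L, hLc, hLmax, _⟩ := exists_maximal_comm_separable (k := k) (D := D)
  have hdim := finrank_eq_sq_of_maximal_comm L hLc hLmax
  refine ⟨Module.finrank k L, ?_, hdim⟩
  rcases Nat.eq_zero_or_pos (Module.finrank k L) with h | h
  · exfalso
    rw [h] at hdim
    have : 0 < Module.finrank k D := Module.finrank_pos
    omega
  · exact h

variable {A : Type v} [Ring A] [Algebra k A] [Algebra.IsCentral k A] [IsSimpleRing A]
  [FiniteDimensional k A]

theorem exists_isIndex : ∃ d, CSAGal.IsIndex k A d := by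
  haveI : IsArtinianRing A := IsArtinianRing.of_finite k A
  obtain ⟨r, hr, D, _, _, _, ⟨f⟩⟩ := IsSimpleRing.exists_algEquiv_matrix_divisionRing_finite k A
  haveI : Algebra.IsCentral k (Matrix (Fin r) (Fin r) D) := isCentral_of_algEquiv f
  haveI : Algebra.IsCentral k D := isCentral_of_matrix k D r
  obtain ⟨d, hd0, hd⟩ := exists_finrank_eq_sq (k := k) D
  exact ⟨d, hd0, r, D, inferInstance, inferInstance, Nat.pos_of_ne_zero hr.out, hd, ⟨f⟩⟩

theorem isIndex_exists_splitting_field {d : ℕ} (h : CSAGal.IsIndex k A d) :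
    ∃ (F : Type v) (_ : Field F) (_ : Algebra k F), FiniteDimensional k F ∧
      Module.finrank k F = d ∧ Curves.Splits k A F := by
  obtain ⟨hd0, m, D, _, _, hm, hd, ⟨f⟩⟩ := h
  haveI : NeZero m := ⟨hm.ne'⟩
  haveI : FiniteDimensional k D :=
    Module.finite_of_finrank_pos (by rw [hd]; exact pow_pos hd0 2)
  haveI : Algebra.IsCentral k (Matrix (Fin m) (Fin m) D) := isCentral_of_algEquiv f
  haveI : Algebra.IsCentral k D := isCentral_of_matrix k D m
  obtain ⟨L, hLc, hLmax, _⟩ := exists_maximal_comm_separable (k := k) (D := D)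
  have hdim := finrank_eq_sq_of_maximal_comm L hLc hLmax
  letI instL : Field ↥L := fieldOfComm L hLc
  have hL : Module.finrank k ↥L = d := by
    rw [hd] at hdim
    exact (Nat.pow_left_injective (n := 2) (by norm_num) hdim).symm
  have s1 : Curves.Splits k D ↥L := splits_of_algHom_of_finrank_eq L.val hdim
  exact ⟨↥L, instL, inferInstance, inferInstance, hL,
    splits_of_algEquiv f.symm (splits_matrix m hm.ne' s1)⟩

theorem isIndex_dvd_finrank_of_splits {d : ℕ} (h : CSAGal.IsIndex k A d) {F : Type*} [Field F]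
    [Algebra k F] [FiniteDimensional k F] (hs : Curves.Splits k A F) :
    d ∣ Module.finrank k F := by
  obtain ⟨hd0, m, D, _, _, hm, hd, ⟨f⟩⟩ := h
  haveI : NeZero m := ⟨hm.ne'⟩
  haveI : FiniteDimensional k D :=
    Module.finite_of_finrank_pos (by rw [hd]; exact pow_pos hd0 2)
  haveI : Algebra.IsCentral k (Matrix (Fin m) (Fin m) D) := isCentral_of_algEquiv f
  haveI : Algebra.IsCentral k D := isCentral_of_matrix k D m
  have s : Curves.Splits k D F := splits_of_splits_matrix m hm.ne' (splits_of_algEquiv f hs)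
  exact dvd_finrank_of_splits d hd s

/-- Two central simple algebras with the same finite splitting fields have the same index. -/
theorem isIndex_of_splits_imp {B : Type v} [Ring B] [Algebra k B] [Algebra.IsCentral k B]
    [IsSimpleRing B] [FiniteDimensional k B]
    (hAB : ∀ (F : Type v) [Field F] [Algebra k F] [FiniteDimensional k F],
      Curves.Splits k A F → Curves.Splits k B F)
    (hBA : ∀ (F : Type v) [Field F] [Algebra k F] [FiniteDimensional k F],
      Curves.Splits k B F → Curves.Splits k A F)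
    {d : ℕ} (h : CSAGal.IsIndex k A d) : CSAGal.IsIndex k B d := by
  obtain ⟨d', h'⟩ := exists_isIndex (k := k) (A := B)
  obtain ⟨F, _, _, _, hF, hsF⟩ := isIndex_exists_splitting_field h
  obtain ⟨F', _, _, _, hF', hsF'⟩ := isIndex_exists_splitting_field h'
  have h1 : d' ∣ d := hF ▸ isIndex_dvd_finrank_of_splits h' (hAB F hsF)
  have h2 : d ∣ d' := hF' ▸ isIndex_dvd_finrank_of_splits h (hBA F' hsF')
  rw [Nat.dvd_antisymm h2 h1]
  exact h'

theorem isIndex_unique {d d' : ℕ} (h : CSAGal.IsIndex k A d) (h' : CSAGal.IsIndex k A d') :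
    d = d' := by
  obtain ⟨F, _, _, _, hF, hsF⟩ := isIndex_exists_splitting_field h
  obtain ⟨F', _, _, _, hF', hsF'⟩ := isIndex_exists_splitting_field h'
  have h1 : d' ∣ d := hF ▸ isIndex_dvd_finrank_of_splits h' hsF
  have h2 : d ∣ d' := hF' ▸ isIndex_dvd_finrank_of_splits h hsF'
  exact Nat.dvd_antisymm h2 h1

end

end Groth.Agent.H1.CSA
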