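import Mathlib.LinearAlgebra.Matrix.Determinant.Basic
import Mathlib.Data.Fintype.BigOperators
import Mathlib.Algebra.BigOperators.Ring.Finset
import Mathlib.Algebra.BigOperators.GroupWithZero.Finset

/-!
# Kronecker powers of matrices and permutation matrices on `Fin r → Fin n`

`kronP π M f g = ∏ i, M i (f (π i)) (g i)`.  For `π = 1` this is the Kronecker product of the
`M i`; for `M = 1` it is the permutation matrix of `π`.  The antisymmetrizer (for `r = n`) has
rank one.
-/

set_option autoImplicit false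

namespace Groth.Agent.H1.CSA.KronPow

open Matrix

variable {R : Type*} [CommRing R] {r n : ℕ}

/-- Precomposition with a permutation, as an equivalence of function spaces. -/
def compEquiv (τ : Equiv.Perm (Fin r)) : (Fin r → Fin n) ≃ (Fin r → Fin n) where
  toFun h := fun i => h (τ i)
  invFun h := fun i => h (τ.symm i)
  left_inv h := by funext i; simp
  right_inv h := by funext i; simp

/-- The twisted Kronecker product. -/
def kronP (π : Equiv.Perm (Fin r)) (M : Fin r → Matrix (Fin n) (Fin n) R) :
    Matrix (Fin r → Fin n) (Fin r → Fin n) R :=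
  Matrix.of fun f g => ∏ i, M i (f (π i)) (g i)

theorem kronP_apply (π : Equiv.Perm (Fin r)) (M : Fin r → Matrix (Fin n) (Fin n) R)
    (f g : Fin r → Fin n) : kronP π M f g = ∏ i, M i (f (π i)) (g i) := rfl

theorem kronP_mul (π τ : Equiv.Perm (Fin r)) (M N : Fin r → Matrix (Fin n) (Fin n) R) :
    kronP π M * kronP τ N = kronP (π * τ) (fun j => M (τ j) * N j) := by
  ext f g
  rw [Matrix.mul_apply]
  simp only [kronP_apply, Matrix.mul_apply, Equiv.Perm.mul_apply]
  rw [Finset.prod_univ_sum, Fintype.piFinset_univ]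
  refine Fintype.sum_equiv (compEquiv τ) _ _ (fun h => ?_)
  show (∏ i, M i (f (π i)) (h i)) * (∏ i, N i (h (τ i)) (g i)) =
    ∏ j, M (τ j) (f (π (τ j))) (h (τ j)) * N j (h (τ j)) (g j)
  rw [Finset.prod_mul_distrib, Equiv.prod_comp τ (fun i => M i (f (π i)) (h i))]

theorem kronP_one_one :
    kronP (1 : Equiv.Perm (Fin r)) (fun _ => (1 : Matrix (Fin n) (Fin n) R)) = 1 := by
  ext f g
  rw [kronP_apply, Matrix.one_apply]
  by_cases h : f = g
  · subst h
    rw [if_pos rfl]
    exact Finset.prod_eq_one fun i _ =>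
      (Matrix.one_apply_eq (f i) : (1 : Matrix (Fin n) (Fin n) R) (f i) (f i) = 1)
  · rw [if_neg h]
    obtain ⟨i, hi⟩ : ∃ i, f i ≠ g i := by
      by_contra hcon
      push Not at hcon
      exact h (funext hcon)
    exact Finset.prod_eq_zero (Finset.mem_univ i)
      (Matrix.one_apply_ne hi : (1 : Matrix (Fin n) (Fin n) R) (f i) (g i) = 0)

theorem kronP_map {R' : Type*} [CommRing R'] {F : Type*} [FunLike F R R'] [MonoidHomClass F R R']
    (σ : F) (π : Equiv.Perm (Fin r)) (M : Fin r → Matrix (Fin n) (Fin n) R) :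
    (kronP π M).map σ = kronP π (fun i => (M i).map σ) := by
  ext f g
  simp only [Matrix.map_apply, kronP_apply, map_prod]

theorem perm_comm_kron (π : Equiv.Perm (Fin r)) (u : Matrix (Fin n) (Fin n) R) :
    kronP π (fun _ => (1 : Matrix (Fin n) (Fin n) R)) * kronP 1 (fun _ => u) =
      kronP 1 (fun _ => u) * kronP π (fun _ => 1) := by
  rw [kronP_mul, kronP_mul]
  simp only [mul_one, one_mul]

theorem kron_mul_kron_inv (u u' : Matrix (Fin n) (Fin n) R) (h : u * u' = 1) :
    kronP (1 : Equiv.Perm (Fin r)) (fun _ => u) * kronP 1 (fun _ => u') = 1 := by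
  rw [kronP_mul]
  simp only [mul_one, h]
  exact kronP_one_one

/-- The 0/1 matrix of a function. -/
def Emat (R : Type*) [CommRing R] {n : ℕ} (f : Fin n → Fin n) : Matrix (Fin n) (Fin n) R :=
  Matrix.of fun i j => if f i = j then 1 else 0

/-- The sign of a function (zero unless it is a permutation). -/
def eps (R : Type*) [CommRing R] {n : ℕ} (f : Fin n → Fin n) : R := (Emat R f).det

theorem Emat_mul_transpose (f g : Fin n → Fin n) :
    Emat R f * (Emat R g)ᵀ = Matrix.of fun a b => (1 : Matrix (Fin n) (Fin n) R) (f a) (g b) := by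
  ext a b
  rw [Matrix.mul_apply, Finset.sum_eq_single (f a)]
  · simp only [Emat, Matrix.of_apply, Matrix.transpose_apply, Matrix.one_apply]
    rw [if_pos trivial, one_mul]
    exact if_congr eq_comm rfl rfl
  · intro l _ hl
    simp only [Emat, Matrix.of_apply]
    rw [if_neg (Ne.symm hl), zero_mul]
  · intro h
    exact absurd (Finset.mem_univ _) h

/-- The antisymmetrizer on `Fin n → Fin n`. -/
def asym (R : Type*) [CommRing R] (n : ℕ) : Matrix (Fin n → Fin n) (Fin n → Fin n) R :=
  ∑ π : Equiv.Perm (Fin n),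
    ((Equiv.Perm.sign π : ℤ) : R) • kronP π (fun _ => (1 : Matrix (Fin n) (Fin n) R))

theorem asym_apply (f g : Fin n → Fin n) : asym R n f g = eps R f * eps R g := by
  rw [eps, eps, ← Matrix.det_transpose (Emat R g), ← Matrix.det_mul, Emat_mul_transpose,
    Matrix.det_apply', asym, Matrix.sum_apply]
  refine Finset.sum_congr rfl fun π _ => ?_
  rw [Matrix.smul_apply, smul_eq_mul, kronP_apply]
  rfl

theorem eps_id : eps R (id : Fin n → Fin n) = 1 := by
  have : Emat R (id : Fin n → Fin n) = 1 := by
    ext i j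
    simp [Emat, Matrix.one_apply]
  rw [eps, this, Matrix.det_one]

theorem asym_eq : asym R n = Matrix.vecMulVec (eps R) (eps R) := by
  ext f g
  rw [asym_apply, Matrix.vecMulVec_apply]

theorem mul_asym (X : Matrix (Fin n → Fin n) (Fin n → Fin n) R) :
    X * asym R n = Matrix.vecMulVec (X *ᵥ eps R) (eps R) := by
  rw [asym_eq, Matrix.mul_vecMulVec]

theorem asym_ne_zero [Nontrivial R] : asym R n ≠ 0 := by
  intro h
  have h1 : asym R n id id = 0 := by rw [h]; rfl
  rw [asym_apply, eps_id, mul_one] at h1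
  exact one_ne_zero h1

end Groth.Agent.H1.CSA.KronPow
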