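import Groth.Agent.H1.CSA.EndSimple
import Mathlib.LinearAlgebra.Matrix.Module
import Mathlib.Algebra.Algebra.Opposite
import Mathlib.Data.Matrix.Basic

set_option autoImplicit false
open Matrix.Module

namespace Groth.Agent.H1.CSA

section EndCongr

/-- Endomorphism algebras of simple modules over isomorphic simple artinian algebras are
isomorphic. -/
theorem nonempty_end_algEquiv_of_algEquiv {k R R' V V' : Type*} [Field k] [Ring R] [Algebra k R]
    [IsSimpleRing R] [IsArtinianRing R] [Ring R'] [Algebra k R'] (e : R ≃ₐ[k] R')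
    [AddCommGroup V] [Module k V] [Module R V] [IsScalarTower k R V] [IsSimpleModule R V]
    [AddCommGroup V'] [Module k V'] [Module R' V'] [IsScalarTower k R' V'] [IsSimpleModule R' V'] :
    Nonempty (Module.End R V ≃ₐ[k] Module.End R' V') := by
  letI inst : Module R V' := Module.compHom V' (e : R →+* R')
  have hsmul : ∀ (r : R) (v : V'), r • v = e r • v := fun _ _ => rfl
  haveI : IsScalarTower k R V' := ⟨fun c r v => by rw [hsmul, hsmul, map_smul, smul_assoc]⟩
  haveI : IsSimpleModule R V' := by
    haveI : RingHomSurjective (e : R →+* R') := ⟨e.surjective⟩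
    let l : V' →ₛₗ[(e : R →+* R')] V' :=
      { toFun := id, map_add' := fun _ _ => rfl, map_smul' := fun _ _ => rfl }
    exact (LinearMap.isSimpleModule_iff_of_bijective l Function.bijective_id).mpr inferInstance
  obtain ⟨f⟩ := nonempty_linearEquiv_of_isSimpleModule (R := R) V V'
  refine ⟨(f.conjAlgEquiv k).trans ?_⟩
  exact
    { toFun := fun g =>
        { toFun := g
          map_add' := g.map_add
          map_smul' := fun r' v => by
            have := g.map_smul (e.symm r') v
            rwa [hsmul, hsmul, e.apply_symm_apply] at this }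
      invFun := fun g =>
        { toFun := g
          map_add' := g.map_add
          map_smul' := fun r v => g.map_smul (e r) v }
      left_inv := fun _ => rfl
      right_inv := fun _ => rfl
      map_mul' := fun _ _ => rfl
      map_add' := fun _ _ => rfl
      commutes' := fun _ => rfl }

end EndCongr

section Matrix

variable (k : Type*) [Field k] (D : Type*) [DivisionRing D] [Algebra k D]
  (ι : Type*) [Fintype ι] [DecidableEq ι]

/-- Column vectors form a simple module over the matrix ring of a division ring. -/
theorem isSimpleModule_matrix_vec [Nonempty ι] : IsSimpleModule (Matrix ι ι D) (ι → D) := by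
  rw [isSimpleModule_iff_toSpanSingleton_surjective]
  refine ⟨inferInstance, fun v hv w => ?_⟩
  obtain ⟨j, hj⟩ : ∃ j, v j ≠ 0 := by
    by_contra h
    push_neg at h
    exact hv (funext h)
  refine ⟨Matrix.of fun i l => if l = j then w i * (v j)⁻¹ else 0, ?_⟩
  ext i
  simp [LinearMap.toSpanSingleton_apply, hj]

/-- Right multiplication by a scalar, as an endomorphism of the module of column vectors. -/
def rightMulEnd : Dᵐᵒᵖ →ₐ[k] Module.End (Matrix ι ι D) (ι → D) where
  toFun d :=
    { toFun := fun v i => v i * d.unop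
      map_add' := fun v w => by ext i; simp [add_mul]
      map_smul' := fun N v => by ext i; simp [Finset.sum_mul, mul_assoc] }
  map_one' := by ext v i; simp
  map_mul' a b := by ext v i; simp [mul_assoc]
  map_zero' := by ext v i; simp
  map_add' a b := by ext v i; simp [mul_add]
  commutes' c := by
    ext v i
    simp [MulOpposite.algebraMap_apply, Algebra.smul_def, Algebra.commutes]

theorem rightMulEnd_apply (d : Dᵐᵒᵖ) (v : ι → D) (i : ι) :
    rightMulEnd k D ι d v i = v i * d.unop := rfl

theorem rightMulEnd_bijective [Nonempty ι] : Function.Bijective (rightMulEnd k D ι) := by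
  obtain ⟨i₀⟩ := ‹Nonempty ι›
  constructor
  · intro a b h
    have := congrFun (LinearMap.congr_fun h (Pi.single i₀ 1)) i₀
    simpa [rightMulEnd_apply] using this
  · intro φ
    refine ⟨MulOpposite.op (φ (Pi.single i₀ 1) i₀), ?_⟩
    ext v i
    have hv : v = (Matrix.of fun i j => if j = i₀ then v i else 0 : Matrix ι ι D) •
        (Pi.single i₀ (1 : D) : ι → D) := by
      ext i
      simp
    rw [rightMulEnd_apply, MulOpposite.unop_op]
    conv_rhs => rw [hv, map_smul]
    simp

/-- `End_{M_n(D)}(D^n) = Dᵐᵒᵖ`. -/
noncomputable def rightMulEndEquiv [Nonempty ι] :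
    Dᵐᵒᵖ ≃ₐ[k] Module.End (Matrix ι ι D) (ι → D) :=
  AlgEquiv.ofBijective (rightMulEnd k D ι) (rightMulEnd_bijective k D ι)

end Matrix

/-- Uniqueness of the division algebra in Wedderburn's theorem. -/
theorem nonempty_algEquiv_of_matrix_algEquiv (k : Type*) [Field k]
    (D : Type*) [DivisionRing D] [Algebra k D] [FiniteDimensional k D]
    (D' : Type*) [DivisionRing D'] [Algebra k D']
    (n m : ℕ) (hn : n ≠ 0) (hm : m ≠ 0)
    (e : Matrix (Fin n) (Fin n) D ≃ₐ[k] Matrix (Fin m) (Fin m) D') :
    Nonempty (D ≃ₐ[k] D') := by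
  haveI : NeZero n := ⟨hn⟩
  haveI : NeZero m := ⟨hm⟩
  haveI : IsArtinianRing (Matrix (Fin n) (Fin n) D) := IsArtinianRing.of_finite k _
  haveI := isSimpleModule_matrix_vec D (Fin n)
  haveI := isSimpleModule_matrix_vec D' (Fin m)
  obtain ⟨f⟩ := nonempty_end_algEquiv_of_algEquiv (k := k) e (V := Fin n → D) (V' := Fin m → D')
  exact ⟨AlgEquiv.op.symm (((rightMulEndEquiv k D (Fin n)).trans f).trans
    (rightMulEndEquiv k D' (Fin m)).symm)⟩

end Groth.Agent.H1.CSA
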