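import Groth.Agent.H1.CSA.TPowRep
import Groth.Agent.H23.RegularLocal

/-!
# Specialisation of splittings along regular local rings

`HasRep k B F ι`: the `k`-algebra `B` has a matrix representation over the commutative ring `F`
of degree `n` with `n * n ≤ dim B`, semilinear with respect to `ι : k →+* F`.  For a central
simple algebra and a field `F` this is the same as being split by `F`.  Representations descend
from the fraction field of a principal ideal domain to the domain itself (stable lattices), and
hence, by induction on the dimension, from the fraction field of a regular local ring to its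
residue field.
-/

set_option autoImplicit false
universe u w
open scoped TensorProduct
open IsLocalRing

namespace Groth.Agent.H1.CSA.RegDesc

section Defs

variable (k : Type*) [Field k] (B : Type*) [Ring B] [Algebra k B]

/-- `B` has a matrix representation over `F` of degree `n ≠ 0` with `n * n ≤ dim B`,
semilinear with respect to `ι`. -/
def HasRep (F : Type*) [CommRing F] (ι : k →+* F) : Prop :=
  ∃ n : ℕ, n ≠ 0 ∧ n * n ≤ Module.finrank k B ∧
    ∃ f : B →+* Matrix (Fin n) (Fin n) F, ∀ (c : k) (b : B), f (c • b) = ι c • f b

variable {k B}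

theorem HasRep.map {F F' : Type*} [CommRing F] [CommRing F'] {ι : k →+* F}
    (h : HasRep k B F ι) (σ : F →+* F') : HasRep k B F' (σ.comp ι) := by
  obtain ⟨n, hn, hle, f, hf⟩ := h
  refine ⟨n, hn, hle, σ.mapMatrix.comp f, fun c b => ?_⟩
  show σ.mapMatrix (f (c • b)) = σ (ι c) • σ.mapMatrix (f b)
  rw [hf]
  ext i j
  simp [RingHom.mapMatrix_apply, Matrix.map_apply, Matrix.smul_apply]

theorem HasRep.congr {F : Type*} [CommRing F] {ι ι' : k →+* F} (h : HasRep k B F ι)
    (e : ι = ι') : HasRep k B F ι' := e ▸ h

variable (k B)

theorem hasRep_of_splits [Algebra.IsCentral k B] [IsSimpleRing B] [FiniteDimensional k B]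
    {K : Type*} [Field K] [Algebra k K] (h : Curves.Splits k B K) :
    HasRep k B K (algebraMap k K) := by
  obtain ⟨n, hn, ⟨φ⟩⟩ := h
  refine ⟨n, hn, ?_, (TPowRep.rho φ).toRingHom, ?_⟩
  · rw [TPowRep.finrank_eq_sq φ, sq]
  · intro c b
    show TPowRep.rho φ (c • b) = algebraMap k K c • TPowRep.rho φ b
    rw [map_smul, algebraMap_smul]

theorem splits_of_hasRep [Algebra.IsCentral k B] [IsSimpleRing B] [FiniteDimensional k B]
    {F : Type*} [Field F] [Algebra k F] (h : HasRep k B F (algebraMap k F)) :
    Curves.Splits k B F := by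
  obtain ⟨n, hn, hle, f, hf⟩ := h
  haveI : NeZero n := ⟨hn⟩
  let fA : B →ₐ[k] Matrix (Fin n) (Fin n) F :=
    { f with
      commutes' := fun c => by
        show f (algebraMap k B c) = algebraMap k (Matrix (Fin n) (Fin n) F) c
        rw [Algebra.algebraMap_eq_smul_one, hf, map_one, algebraMap_smul,
          Algebra.algebraMap_eq_smul_one] }
  let Φ : F ⊗[k] B →ₐ[F] Matrix (Fin n) (Fin n) F :=
    Algebra.TensorProduct.lift (Algebra.ofId F _) fA
      (fun c b => Algebra.commute_algebraMap_left c _)
  haveI : IsSimpleRing (F ⊗[k] B) := isSimpleRing_tensorProduct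
  have hinj : Function.Injective Φ := RingHom.injective Φ.toRingHom
  have h1 : Module.finrank F (F ⊗[k] B) = Module.finrank k B := Module.finrank_baseChange
  have h2 : Module.finrank F (Matrix (Fin n) (Fin n) F) = n * n := by
    rw [Module.finrank_matrix]
    simp
  have h3 : Module.finrank F (F ⊗[k] B) ≤ n * n := by
    rw [← h2]
    exact LinearMap.finrank_le_finrank_of_injective (f := Φ.toLinearMap) hinj
  have hd : Module.finrank F (F ⊗[k] B) = Module.finrank F (Matrix (Fin n) (Fin n) F) := by
    rw [h2]
    omega
  exact ⟨n, hn, ⟨AlgEquiv.ofBijective Φ ⟨hinj,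
    (LinearMap.injective_iff_surjective_of_finrank_eq_finrank
      (f := Φ.toLinearMap) hd).mp hinj⟩⟩⟩

end Defs

section PID

variable {k : Type*} [Field k] {B : Type*} [Ring B] [Algebra k B] [FiniteDimensional k B]

/-- A representation over the fraction field of a principal ideal domain descends to the
domain (choose a stable lattice; it is free). -/
theorem HasRep.descend {O : Type*} [CommRing O] [IsDomain O] [IsPrincipalIdealRing O]
    {K : Type*} [Field K] [Algebra O K] [IsFractionRing O K] (ι₀ : k →+* O)
    (h : HasRep k B K ((algebraMap O K).comp ι₀)) : HasRep k B O ι₀ := by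
  classical
  obtain ⟨n, hn, hle, f, hf⟩ := h
  haveI : NeZero n := ⟨hn⟩
  have hsmul : ∀ (c : k) (b : B), f (c • b) = ι₀ c • f b := fun c b => by
    rw [hf c b, RingHom.comp_apply, algebraMap_smul]
  let bB := Module.finBasis k B
  let gen : Fin (Module.finrank k B) × Fin n → (Fin n → K) :=
    fun p => (f (bB p.1)).mulVec (Pi.single p.2 1)
  let L : Submodule O (Fin n → K) := Submodule.span O (Set.range gen)
  have gen_mem : ∀ (a : B) (j : Fin n), (f a).mulVec (Pi.single j 1) ∈ L := by
    intro a j
    have ha : a ∈ Submodule.span k (Set.range bB) := by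
      rw [bB.span_eq]
      trivial
    induction ha using Submodule.span_induction with
    | mem a ha =>
      obtain ⟨i, rfl⟩ := ha
      exact Submodule.subset_span ⟨(i, j), rfl⟩
    | zero =>
      rw [map_zero, Matrix.zero_mulVec]
      exact zero_mem _
    | add a b _ _ ha hb =>
      rw [map_add, Matrix.add_mulVec]
      exact add_mem ha hb
    | smul c a _ ha =>
      rw [hsmul, Matrix.smul_mulVec]
      exact Submodule.smul_mem _ _ ha
  have stab : ∀ (a : B) (v : Fin n → K), v ∈ L → (f a).mulVec v ∈ L := by
    intro a v hv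
    induction hv using Submodule.span_induction with
    | mem v hv =>
      obtain ⟨⟨i, j⟩, rfl⟩ := hv
      show (f a).mulVec ((f (bB i)).mulVec (Pi.single j 1)) ∈ L
      rw [Matrix.mulVec_mulVec, ← map_mul]
      exact gen_mem _ _
    | zero =>
      rw [Matrix.mulVec_zero]
      exact zero_mem _
    | add v w _ _ hv hw =>
      rw [Matrix.mulVec_add]
      exact add_mem hv hw
    | smul o v _ hv =>
      rw [Matrix.mulVec_smul]
      exact Submodule.smul_mem _ _ hv
  have single_mem : ∀ j : Fin n, (Pi.single j (1 : K) : Fin n → K) ∈ L := by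
    intro j
    have h1 := gen_mem 1 j
    rwa [map_one, Matrix.one_mulVec] at h1
  haveI : Module.Finite O L := Module.Finite.span_of_finite O (Set.finite_range gen)
  haveI : Module.IsTorsionFree O (Fin n → K) :=
    Module.IsTorsionFree.trans_faithfulSMul O K (Fin n → K)
  obtain ⟨r, c⟩ := Module.basisOfFiniteTypeTorsionFree' (R := O) (M := L)
  -- the rank is at most `n`
  have hli : LinearIndependent O (L.subtype ∘ c) :=
    c.linearIndependent.map' L.subtype (Submodule.ker_subtype L)
  have hliK : LinearIndependent K (L.subtype ∘ c) :=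
    (LinearIndependent.iff_fractionRing O K).mp hli
  have hrn : r ≤ n := by
    have h1 := hliK.fintype_card_le_finrank
    rwa [Fintype.card_fin, Module.finrank_fin_fun] at h1
  have hr0 : r ≠ 0 := by
    rintro rfl
    have hsub : Subsingleton L := c.repr.toEquiv.subsingleton
    have h0 : (⟨Pi.single 0 1, single_mem 0⟩ : L) = 0 := Subsingleton.elim _ _
    have h1 : (Pi.single (0 : Fin n) (1 : K) : Fin n → K) 0 = 0 :=
      congrArg (fun v : L => (v : Fin n → K) 0) h0
    rw [Pi.single_eq_same] at h1
    exact one_ne_zero h1
  -- the action on the lattice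
  let θ : B →+* Module.End O L :=
    { toFun := fun a =>
        ((Matrix.mulVecLin (f a)).restrictScalars O).restrict (fun v hv => stab a v hv)
      map_one' := by
        apply LinearMap.ext
        intro v
        apply Subtype.ext
        show (f 1).mulVec (v : Fin n → K) = v
        rw [map_one, Matrix.one_mulVec]
      map_mul' := fun a b => by
        apply LinearMap.ext
        intro v
        apply Subtype.ext
        show (f (a * b)).mulVec (v : Fin n → K) = (f a).mulVec ((f b).mulVec v)
        rw [map_mul, Matrix.mulVec_mulVec]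
      map_zero' := by
        apply LinearMap.ext
        intro v
        apply Subtype.ext
        show (f 0).mulVec (v : Fin n → K) = 0
        rw [map_zero, Matrix.zero_mulVec]
      map_add' := fun a b => by
        apply LinearMap.ext
        intro v
        apply Subtype.ext
        show (f (a + b)).mulVec (v : Fin n → K) = (f a).mulVec v + (f b).mulVec v
        rw [map_add, Matrix.add_mulVec] }
  have hθ : ∀ (x : k) (b : B), θ (x • b) = ι₀ x • θ b := by
    intro x b
    apply LinearMap.ext
    intro v
    apply Subtype.ext
    show (f (x • b)).mulVec (v : Fin n → K) = ι₀ x • (f b).mulVec v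
    rw [hsmul, Matrix.smul_mulVec]
  refine ⟨r, hr0, (Nat.mul_le_mul hrn hrn).trans hle,
    (LinearMap.toMatrixAlgEquiv c).toAlgHom.toRingHom.comp θ, fun x b => ?_⟩
  show LinearMap.toMatrixAlgEquiv c (θ (x • b)) = ι₀ x • LinearMap.toMatrixAlgEquiv c (θ b)
  rw [hθ, map_smul]

end PID

section Regular

open H23

/-- Quotient of a regular local ring by an element of `m \ m²`. -/
theorem regular_quotient_of_notMem_sq (R : Type u) [CommRing R] [IsRegularLocalRing R] (x : R)
    (hxm : x ∈ maximalIdeal R) (hx2 : x ∉ maximalIdeal R ^ 2) :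
    IsRegularLocalRing (R ⧸ Ideal.span {x}) ∧
      ringKrullDim (R ⧸ Ideal.span {x}) + 1 = ringKrullDim R := by
  have hreg : ((maximalIdeal R).spanFinrank : WithBot ℕ∞) = ringKrullDim R :=
    IsRegularLocalRing.spanFinrank_maximalIdeal
  let x' : Fin 1 → maximalIdeal R := fun _ => ⟨x, hxm⟩
  have hli : LinearIndependent (ResidueField R)
      (fun i => (maximalIdeal R).toCotangent (x' i)) := by
    rw [linearIndependent_unique_iff]
    intro h0
    exact hx2 ((Ideal.toCotangent_eq_zero _ _).mp h0)
  obtain ⟨k, y, hk, hm⟩ := H23.exists_extension x' hli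
  have hfr : Module.finrank (ResidueField R) (CotangentSpace R) =
      (maximalIdeal R).spanFinrank :=
    (spanFinrank_maximalIdeal_eq_finrank_cotangentSpace R).symm
  obtain ⟨hQreg, hQdim⟩ :=
    H23.quotient_regular (fun i => (x' i : R)) (fun j => (y j : R)) hm (by
      rw [← hreg, ← hfr, ← hk])
  have hrange : Set.range (fun i : Fin 1 => ((x' i : maximalIdeal R) : R)) = {x} := by
    ext z; simp [x']
  rw [hrange] at hQreg hQdim
  refine ⟨hQreg, ?_⟩
  rw [hQdim, ← hreg, ← hfr, ← hk, Nat.cast_add, Nat.cast_one, add_comm]

theorem regular_quotient_spanFinrank (A : Type u) [CommRing A] [IsRegularLocalRing A] (x : A)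
    (hxm : x ∈ maximalIdeal A) (hx2 : x ∉ maximalIdeal A ^ 2) (d : ℕ)
    (hd : (maximalIdeal A).spanFinrank = d + 1) :
    ∃ _ : IsRegularLocalRing (A ⧸ Ideal.span {x}),
      (maximalIdeal (A ⧸ Ideal.span {x})).spanFinrank = d := by
  have hAdim : ((maximalIdeal A).spanFinrank : WithBot ℕ∞) = ringKrullDim A :=
    IsRegularLocalRing.spanFinrank_maximalIdeal
  obtain ⟨hA'reg, hA'dim⟩ := regular_quotient_of_notMem_sq A x hxm hx2
  refine ⟨hA'reg, ?_⟩
  have h1 : ((maximalIdeal (A ⧸ Ideal.span {x})).spanFinrank : WithBot ℕ∞) =
      ringKrullDim (A ⧸ Ideal.span {x}) := IsRegularLocalRing.spanFinrank_maximalIdeal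
  rw [← h1, ← hAdim, hd] at hA'dim
  have : (maximalIdeal (A ⧸ Ideal.span {x})).spanFinrank + 1 = d + 1 := by
    exact_mod_cast hA'dim
  omega

variable (k : Type*) [Field k] (B : Type*) [Ring B] [Algebra k B] [FiniteDimensional k B]

/-- A representation over the fraction field of a regular local ring specialises to the residue
field (more precisely to any field receiving the ring through a map killing the non-units). -/
theorem hasRep_of_regular :
    ∀ (d : ℕ) (R : Type u) [CommRing R] [IsRegularLocalRing R] (ι₀ : k →+* R),
      (maximalIdeal R).spanFinrank = d →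
      ∀ (K : Type u) [Field K] [Algebra R K] [IsFractionRing R K],
        HasRep k B K ((algebraMap R K).comp ι₀) →
        ∀ (F : Type w) [Field F] (π : R →+* F), (∀ r : R, ¬ IsUnit r → π r = 0) →
          HasRep k B F (π.comp ι₀) := by
  intro d
  induction d with
  | zero =>
    intro R _ _ ι₀ hd K _ _ _ h F _ π hπ
    have hm : maximalIdeal R = ⊥ :=
      (Submodule.spanFinrank_eq_zero_iff_eq_bot (IsNoetherian.noetherian _)).mp hd
    haveI : IsDomain R := H23.isDomain_of_isRegularLocalRing R
    haveI : IsPrincipalIdealRing R := ⟨fun I => by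
      by_cases hI : I = ⊤
      · rw [hI]
        infer_instance
      · have hI' : I = ⊥ := le_bot_iff.mp (hm ▸ IsLocalRing.le_maximalIdeal hI)
        rw [hI']
        infer_instance⟩
    exact (HasRep.descend ι₀ h).map π
  | succ d ih =>
    intro R _ _ ι₀ hd K _ _ _ h F _ π hπ
    haveI : IsDomain R := H23.isDomain_of_isRegularLocalRing R
    obtain ⟨x, hxm, hx2⟩ : ∃ x ∈ maximalIdeal R, x ∉ maximalIdeal R ^ 2 := by
      by_contra hcon
      push Not at hcon
      have hle : maximalIdeal R ≤ maximalIdeal R • maximalIdeal R := by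
        intro y hy
        have h1 := hcon y hy
        rw [pow_two] at h1
        rw [smul_eq_mul]
        exact h1
      have hbot : maximalIdeal R = ⊥ :=
        Submodule.eq_bot_of_le_smul_of_le_jacobson_bot (maximalIdeal R) (maximalIdeal R)
          (IsNoetherian.noetherian _) hle (IsLocalRing.maximalIdeal_le_jacobson ⊥)
      rw [hbot, Submodule.spanFinrank_bot] at hd
      exact Nat.succ_ne_zero d hd.symm
    obtain ⟨p, hp⟩ : ∃ p : Ideal R, p = Ideal.span {x} := ⟨_, rfl⟩
    obtain ⟨hQreg, hQd⟩ : ∃ _ : IsRegularLocalRing (R ⧸ p),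
        (maximalIdeal (R ⧸ p)).spanFinrank = d := by
      rw [hp]
      exact regular_quotient_spanFinrank R x hxm hx2 d hd
    haveI := hQreg
    haveI hQdom : IsDomain (R ⧸ p) := H23.isDomain_of_isRegularLocalRing (R ⧸ p)
    haveI hpprime : p.IsPrime := (Ideal.Quotient.isDomain_iff_prime p).mp hQdom
    have hx0 : x ≠ 0 := by
      rintro rfl
      exact hx2 (zero_mem _)
    have hxnu : ¬ IsUnit x := (IsLocalRing.mem_maximalIdeal x).mp hxm
    -- the discrete valuation ring `O = R_p`
    haveI : IsDomain (Localization.AtPrime p) :=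
      IsLocalization.isDomain_localization (Ideal.primeCompl_le_nonZeroDivisors p)
    haveI : IsNoetherianRing (Localization.AtPrime p) :=
      IsLocalization.isNoetherianRing p.primeCompl _ inferInstance
    have hmax : maximalIdeal (Localization.AtPrime p) =
        Ideal.span {algebraMap R (Localization.AtPrime p) x} := by
      rw [← Localization.AtPrime.map_eq_maximalIdeal,
        congrArg (Ideal.map (algebraMap R (Localization.AtPrime p))) hp, Ideal.map_span,
        Set.image_singleton]
    have hprinc : (maximalIdeal (Localization.AtPrime p)).IsPrincipal :=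
      ⟨⟨algebraMap R (Localization.AtPrime p) x, hmax⟩⟩
    have hnf : ¬ IsField (Localization.AtPrime p) := by
      rw [IsLocalRing.isField_iff_maximalIdeal_eq, hmax, Ideal.span_singleton_eq_bot]
      intro h0
      exact hx0 ((IsLocalization.injective (Localization.AtPrime p)
        (Ideal.primeCompl_le_nonZeroDivisors p)) (h0.trans (map_zero _).symm))
    haveI : IsDiscreteValuationRing (Localization.AtPrime p) :=
      ((IsDiscreteValuationRing.TFAE (Localization.AtPrime p) hnf).out 0 4).mpr hprinc
    have hunit : ∀ y : p.primeCompl, IsUnit (algebraMap R K y) := by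
      intro y
      have hy0 : (y : R) ≠ 0 := fun h0 => y.2 (h0 ▸ p.zero_mem)
      exact IsUnit.mk0 _ (fun h1 => hy0 ((IsFractionRing.injective R K) (h1.trans (map_zero _).symm)))
    letI : Algebra (Localization.AtPrime p) K :=
      (IsLocalization.lift (M := p.primeCompl) (g := algebraMap R K) hunit).toAlgebra
    haveI : IsScalarTower R (Localization.AtPrime p) K :=
      IsScalarTower.of_algebraMap_eq (fun r => (IsLocalization.lift_eq hunit r).symm)
    haveI : IsFractionRing (Localization.AtPrime p) K :=
      IsFractionRing.isFractionRing_of_isDomain_of_isLocalization p.primeCompl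
        (Localization.AtPrime p) K
    have hcomp : (algebraMap (Localization.AtPrime p) K).comp
        ((algebraMap R (Localization.AtPrime p)).comp ι₀) = (algebraMap R K).comp ι₀ := by
      ext c
      exact (IsScalarTower.algebraMap_apply R (Localization.AtPrime p) K (ι₀ c)).symm
    have h1 : HasRep k B (Localization.AtPrime p)
        ((algebraMap R (Localization.AtPrime p)).comp ι₀) :=
      HasRep.descend _ (h.congr hcomp.symm)
    have h2 : HasRep k B p.ResidueField
        ((algebraMap (Localization.AtPrime p) p.ResidueField).comp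
          ((algebraMap R (Localization.AtPrime p)).comp ι₀)) := h1.map _
    have hcomp' : (algebraMap (R ⧸ p) p.ResidueField).comp ((Ideal.Quotient.mk p).comp ι₀) =
        (algebraMap (Localization.AtPrime p) p.ResidueField).comp
          ((algebraMap R (Localization.AtPrime p)).comp ι₀) := by
      ext c
      show algebraMap (R ⧸ p) p.ResidueField (Ideal.Quotient.mk p (ι₀ c)) =
        algebraMap (Localization.AtPrime p) p.ResidueField
          (algebraMap R (Localization.AtPrime p) (ι₀ c))
      rw [Ideal.algebraMap_quotient_residueField_mk,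
        IsScalarTower.algebraMap_apply R (Localization.AtPrime p) p.ResidueField]
    have hπp : ∀ a ∈ p, π a = 0 := by
      intro a ha
      rw [hp, Ideal.mem_span_singleton'] at ha
      obtain ⟨b, rfl⟩ := ha
      rw [map_mul, hπ x hxnu, mul_zero]
    have hπ' : ∀ r : R ⧸ p, ¬ IsUnit r → Ideal.Quotient.lift p π hπp r = 0 := by
      intro r hr
      obtain ⟨r, rfl⟩ := Ideal.Quotient.mk_surjective r
      rw [Ideal.Quotient.lift_mk]
      exact hπ r (fun hu => hr (hu.map _))
    have h3 := ih (R ⧸ p) ((Ideal.Quotient.mk p).comp ι₀) hQd p.ResidueField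
      (h2.congr hcomp'.symm) F (Ideal.Quotient.lift p π hπp) hπ'
    refine h3.congr ?_
    ext c
    show Ideal.Quotient.lift p π hπp (Ideal.Quotient.mk p (ι₀ c)) = π (ι₀ c)
    exact Ideal.Quotient.lift_mk p π hπp

end Regular

end Groth.Agent.H1.CSA.RegDesc
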