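import Groth.Agent.H1.CSA.SimpleModules

set_option autoImplicit false
universe u

namespace Groth.Agent.H1.CSA

/-- A type synonym of `V` carrying the `R`-module structure given by a representation `ρ`. -/
def RepModule {k R V : Type*} [Field k] [Ring R] [Algebra k R] [AddCommGroup V] [Module k V]
    (_ρ : R →ₐ[k] Module.End k V) : Type _ := V

namespace RepModule

variable {k R V : Type*} [Field k] [Ring R] [Algebra k R] [AddCommGroup V] [Module k V]
  (ρ : R →ₐ[k] Module.End k V)

instance instAddCommGroup : AddCommGroup (RepModule ρ) := inferInstanceAs (AddCommGroup V)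

instance instModuleBase : Module k (RepModule ρ) := inferInstanceAs (Module k V)

instance instModule : Module R (RepModule ρ) := Module.compHom V (ρ : R →+* Module.End k V)

theorem smul_def (r : R) (v : RepModule ρ) : r • v = (ρ r) (show V from v) := rfl

instance instIsScalarTower : IsScalarTower k R (RepModule ρ) :=
  ⟨fun c r v => by
    change ρ (c • r) (show V from v) = c • ρ r (show V from v)
    rw [map_smul]
    rfl⟩

instance instFiniteDimensional [FiniteDimensional k V] : FiniteDimensional k (RepModule ρ) :=
  inferInstanceAs (FiniteDimensional k V)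

end RepModule

/-- Two representations of a finite-dimensional simple algebra on the same finite-dimensional
space are conjugate. -/
theorem exists_linearEquiv_conj {k : Type*} [Field k] {R : Type*} [Ring R] [Algebra k R]
    [IsSimpleRing R] [FiniteDimensional k R] {V : Type u} [AddCommGroup V] [Module k V]
    [FiniteDimensional k V] (ρ₁ ρ₂ : R →ₐ[k] Module.End k V) :
    ∃ φ : V ≃ₗ[k] V, ∀ r v, φ (ρ₁ r v) = ρ₂ r (φ v) := by
  have h : Module.finrank k (RepModule ρ₁) = Module.finrank k (RepModule ρ₂) := rfl
  obtain ⟨e⟩ := nonempty_linearEquiv_of_finrank_eq (k := k) (R := R) h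
  exact ⟨e.restrictScalars k, fun r v => e.map_smul r v⟩

end Groth.Agent.H1.CSA
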