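import Groth.Agent.H1.CSA.Centralizer
import Mathlib.FieldTheory.JacobsonNoether
import Mathlib.FieldTheory.SeparableDegree
import Mathlib.FieldTheory.Separable

set_option autoImplicit false
universe u v

namespace Groth.Agent.H1.CSA

variable {k : Type u} [Field k] {D : Type v} [DivisionRing D] [Algebra k D]
  [FiniteDimensional k D]

/-- A commutative subalgebra of a finite-dimensional division algebra is a field. -/
@[reducible] noncomputable def fieldOfComm (E : Subalgebra k D)
    (hE : ∀ x ∈ E, ∀ y ∈ E, x * y = y * x) : Field ↥E :=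
  { divisionRingOfFiniteDimensional k ↥E with
    mul_comm := fun a b => Subtype.ext (hE a a.2 b b.2) }

/-- Separability of an element of a subalgebra can be tested in the ambient algebra. -/
theorem isSeparable_subalgebra_iff (E : Subalgebra k D) (x : ↥E) :
    IsSeparable k x ↔ IsSeparable k (x : D) := by
  unfold IsSeparable
  rw [← minpoly.algHom_eq E.val Subtype.val_injective x]
  rfl

/-- The predicate: commutative, with all elements separable over `k`. -/
def IsSepComm (L : Subalgebra k D) : Prop :=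
  (∀ x ∈ L, ∀ y ∈ L, x * y = y * x) ∧ ∀ x ∈ L, IsSeparable k x

theorem isSepComm_bot : IsSepComm (⊥ : Subalgebra k D) := by
  constructor
  · intro x hx y hy
    obtain ⟨a, rfl⟩ := Algebra.mem_bot.mp hx
    exact Algebra.commutes a y
  · intro x hx
    obtain ⟨a, rfl⟩ := Algebra.mem_bot.mp hx
    exact isSeparable_algebraMap a


set_option maxHeartbeats 1600000 in
/-- A commutative separable subalgebra which is not maximal commutative can be enlarged. -/
theorem exists_lt_isSepComm [Algebra.IsCentral k D] (L : Subalgebra k D) (hL : IsSepComm L)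
    (y : D) (hyL : y ∉ L) (hy : ∀ g ∈ L, g * y = y * g) :
    ∃ L₂ : Subalgebra k D, IsSepComm L₂ ∧ L < L₂ := by
  classical
  obtain ⟨hLc, hLs⟩ := hL
  have hLD' : L ≤ Subalgebra.centralizer k (L : Set D) :=
    fun g hg => (Subalgebra.mem_centralizer_iff k).mpr (fun g' hg' => hLc g' hg' g hg)
  have hyD' : y ∈ Subalgebra.centralizer k (L : Set D) :=
    (Subalgebra.mem_centralizer_iff k).mpr hy
  letI instL : Field ↥L := fieldOfComm L hLc
  letI instD' : DivisionRing ↥(Subalgebra.centralizer k (L : Set D)) :=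
    divisionRingOfFiniteDimensional k ↥(Subalgebra.centralizer k (L : Set D))
  letI algLD' : Algebra ↥L ↥(Subalgebra.centralizer k (L : Set D)) :=
    RingHom.toAlgebra' (Subalgebra.inclusion hLD').toRingHom
      (fun l d => Subtype.ext ((Subalgebra.mem_centralizer_iff k).mp d.2 l.1 l.2))
  haveI : IsScalarTower k ↥L ↥(Subalgebra.centralizer k (L : Set D)) :=
    IsScalarTower.of_algebraMap_eq (fun c => rfl)
  haveI : Module.Finite ↥L ↥(Subalgebra.centralizer k (L : Set D)) :=
    Module.Finite.of_restrictScalars_finite k ↥L ↥(Subalgebra.centralizer k (L : Set D))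
  haveI : Algebra.IsAlgebraic ↥L ↥(Subalgebra.centralizer k (L : Set D)) :=
    Algebra.IsAlgebraic.of_finite ↥L ↥(Subalgebra.centralizer k (L : Set D))
  haveI hLsimple : IsSimpleRing ↥L := DivisionRing.isSimpleRing ↥L
  haveI : Algebra.IsCentral ↥L ↥(Subalgebra.centralizer k (L : Set D)) := ⟨fun z hz => by
    rw [Subalgebra.mem_center_iff] at hz
    have hzL : z.1 ∈ L := by
      have hcc := centralizer_centralizer k D L
      have hz2 : z.1 ∈ Subalgebra.centralizer k
          (Subalgebra.centralizer k (L : Set D) : Set D) := by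
        rw [Subalgebra.mem_centralizer_iff]
        intro g hg
        exact congrArg Subtype.val (hz ⟨g, hg⟩)
      rw [hcc] at hz2
      exact hz2
    rw [Algebra.mem_bot]
    exact ⟨⟨z.1, hzL⟩, Subtype.ext rfl⟩⟩
  have hneq : (⊥ : Subalgebra ↥L ↥(Subalgebra.centralizer k (L : Set D))) ≠ ⊤ := by
    intro h
    have hmem : (⟨y, hyD'⟩ : ↥(Subalgebra.centralizer k (L : Set D))) ∈
        (⊥ : Subalgebra ↥L ↥(Subalgebra.centralizer k (L : Set D))) := by
      rw [h]
      exact Algebra.mem_top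
    obtain ⟨l, hl⟩ := Algebra.mem_bot.mp hmem
    have hl' : (l : D) = y := congrArg Subtype.val hl
    exact hyL (hl' ▸ l.2)
  obtain ⟨x, hx, hxs⟩ := JacobsonNoether.exists_separable_and_not_isCentral' hneq
  have hxL : ∀ g ∈ L, g * x.1 = x.1 * g := (Subalgebra.mem_centralizer_iff k).mp x.2
  have hcomm' : ∀ a ∈ ((L : Set D) ∪ {x.1}), ∀ b ∈ ((L : Set D) ∪ {x.1}), a * b = b * a := by
    rintro a (ha | ha) b (hb | hb)
    · exact hLc a ha b hb
    · rw [Set.mem_singleton_iff] at hb
      subst hb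
      exact hxL a ha
    · rw [Set.mem_singleton_iff] at ha
      subst ha
      exact (hxL b hb).symm
    · rw [Set.mem_singleton_iff] at ha hb
      subst ha
      subst hb
      rfl
  haveI := Algebra.isMulCommutative_adjoin k hcomm'
  have hE₀c : ∀ a ∈ Algebra.adjoin k ((L : Set D) ∪ {x.1}),
      ∀ b ∈ Algebra.adjoin k ((L : Set D) ∪ {x.1}), a * b = b * a :=
    fun a ha b hb => setLike_mul_comm ha hb
  have hLE₀ : L ≤ Algebra.adjoin k ((L : Set D) ∪ {x.1}) :=
    fun g hg => Algebra.subset_adjoin (Or.inl hg)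
  have hxE₀ : x.1 ∈ Algebra.adjoin k ((L : Set D) ∪ {x.1}) := Algebra.subset_adjoin (Or.inr rfl)
  have hE₀D' : Algebra.adjoin k ((L : Set D) ∪ {x.1}) ≤ Subalgebra.centralizer k (L : Set D) :=
    fun e he => (Subalgebra.mem_centralizer_iff k).mpr (fun g hg => hE₀c g (hLE₀ hg) e he)
  letI instE₀ : Field ↥(Algebra.adjoin k ((L : Set D) ∪ {x.1})) := fieldOfComm _ hE₀c
  letI algLE₀ : Algebra ↥L ↥(Algebra.adjoin k ((L : Set D) ∪ {x.1})) :=
    (Subalgebra.inclusion hLE₀).toRingHom.toAlgebra
  haveI : IsScalarTower k ↥L ↥(Algebra.adjoin k ((L : Set D) ∪ {x.1})) :=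
    IsScalarTower.of_algebraMap_eq (fun c => rfl)
  let x' : ↥(Algebra.adjoin k ((L : Set D) ∪ {x.1})) := ⟨x.1, hxE₀⟩
  let j : ↥(Algebra.adjoin k ((L : Set D) ∪ {x.1})) →ₐ[↥L]
      ↥(Subalgebra.centralizer k (L : Set D)) :=
    { (Subalgebra.inclusion hE₀D').toRingHom with commutes' := fun l => rfl }
  have hj : Function.Injective j := Subalgebra.inclusion_injective hE₀D'
  have hx's : IsSeparable ↥L x' := by
    have hjx : j x' = x := Subtype.ext rfl
    unfold IsSeparable at hxs ⊢
    rw [← minpoly.algHom_eq j hj x', hjx]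
    exact hxs
  haveI hGsep : Algebra.IsSeparable ↥L ↥(IntermediateField.adjoin ↥L {x'}) :=
    (IntermediateField.isSeparable_adjoin_simple_iff_isSeparable ↥L
      ↥(Algebra.adjoin k ((L : Set D) ∪ {x.1}))).mpr hx's
  haveI hLsep : Algebra.IsSeparable k ↥L :=
    ⟨fun l => (isSeparable_subalgebra_iff L l).mpr (hLs l.1 l.2)⟩
  haveI hGsepk : Algebra.IsSeparable k ↥(IntermediateField.adjoin ↥L {x'}) :=
    Algebra.IsSeparable.trans k ↥L _
  let L₂ : Subalgebra k D :=
    (((IntermediateField.adjoin ↥L {x'}).toSubalgebra).restrictScalars k).map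
      (Algebra.adjoin k ((L : Set D) ∪ {x.1})).val
  have hmem : ∀ d, d ∈ L₂ ↔ ∃ e : ↥(Algebra.adjoin k ((L : Set D) ∪ {x.1})),
      e ∈ IntermediateField.adjoin ↥L {x'} ∧ e.1 = d := by
    intro d
    constructor
    · rintro ⟨e, he, rfl⟩
      exact ⟨e, he, rfl⟩
    · rintro ⟨e, he, rfl⟩
      exact ⟨e, he, rfl⟩
  refine ⟨L₂, ⟨?_, ?_⟩, ?_⟩
  · intro a ha b hb
    obtain ⟨ea, _, rfl⟩ := (hmem a).mp ha
    obtain ⟨eb, _, rfl⟩ := (hmem b).mp hb
    exact hE₀c ea.1 ea.2 eb.1 eb.2
  · intro a ha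
    obtain ⟨e, he, rfl⟩ := (hmem a).mp ha
    have h1 : IsSeparable k (⟨e, he⟩ : ↥(IntermediateField.adjoin ↥L {x'})) :=
      Algebra.IsSeparable.isSeparable k _
    have h3 : minpoly k e = minpoly k (⟨e, he⟩ : ↥(IntermediateField.adjoin ↥L {x'})) :=
      minpoly.algHom_eq ((IntermediateField.adjoin ↥L {x'}).val.restrictScalars k)
        Subtype.val_injective ⟨e, he⟩
    have h2 : IsSeparable k e := by
      unfold IsSeparable
      rw [h3]
      exact h1
    exact (isSeparable_subalgebra_iff _ e).mp h2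
  · rw [lt_iff_le_and_ne]
    refine ⟨fun g hg => (hmem g).mpr
      ⟨algebraMap ↥L ↥(Algebra.adjoin k ((L : Set D) ∪ {x.1})) ⟨g, hg⟩,
        (IntermediateField.adjoin ↥L {x'}).algebraMap_mem _, rfl⟩, ?_⟩
    intro h
    have hxL₂ : x.1 ∈ L₂ :=
      (hmem _).mpr ⟨x', IntermediateField.mem_adjoin_simple_self ↥L x', rfl⟩
    rw [← h] at hxL₂
    exact hx (Algebra.mem_bot.mpr ⟨⟨x.1, hxL₂⟩, Subtype.ext rfl⟩)

/-- A finite-dimensional central division algebra has a maximal commutative subalgebra which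
is separable over the base field. -/
theorem exists_maximal_comm_separable [Algebra.IsCentral k D] :
    ∃ L : Subalgebra k D, (∀ x ∈ L, ∀ y ∈ L, x * y = y * x) ∧
      (∀ L' : Subalgebra k D, (∀ x ∈ L', ∀ y ∈ L', x * y = y * x) → L ≤ L' → L' = L) ∧
      Algebra.IsSeparable k L := by
  obtain ⟨L, hL, hmax⟩ : ∃ L : Subalgebra k D, IsSepComm L ∧
      ∀ L' : Subalgebra k D, IsSepComm L' → Module.finrank k L' ≤ Module.finrank k L := by
    by_contra hcon
    push Not at hcon
    have key : ∀ n : ℕ, ∃ L : Subalgebra k D, IsSepComm L ∧ n ≤ Module.finrank k L := by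
      intro n
      induction n with
      | zero => exact ⟨⊥, isSepComm_bot, Nat.zero_le _⟩
      | succ n ih =>
        obtain ⟨L, hL, hn⟩ := ih
        obtain ⟨L', hL', hlt⟩ := hcon L hL
        exact ⟨L', hL', by omega⟩
    obtain ⟨L, _, hL⟩ := key (Module.finrank k D + 1)
    have h1 : Module.finrank k ↥L ≤ Module.finrank k D :=
      Submodule.finrank_le (Subalgebra.toSubmodule L)
    omega
  refine ⟨L, hL.1, ?_, ⟨fun l => (isSeparable_subalgebra_iff L l).mpr (hL.2 l.1 l.2)⟩⟩
  intro L' hL'c hLL'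
  by_contra hne
  have hex : ∃ y ∈ L', y ∉ L := by
    by_contra h
    push Not at h
    exact hne (le_antisymm h hLL')
  obtain ⟨y, hyL', hyL⟩ := hex
  obtain ⟨L₂, hL₂, hlt⟩ :=
    exists_lt_isSepComm L hL y hyL (fun g hg => hL'c g (hLL' hg) y hyL')
  have h1 := hmax L₂ hL₂
  have h2 : Module.finrank k ↥L < Module.finrank k ↥L₂ :=
    Submodule.finrank_lt_finrank_of_lt (Subalgebra.toSubmodule.lt_iff_lt.2 hlt)
  omega

end Groth.Agent.H1.CSA
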