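import Mathlib.RingTheory.SimpleModule.WedderburnArtin
import Mathlib.RingTheory.SimpleModule.Isotypic
import Mathlib.LinearAlgebra.FiniteDimensional.Basic
import Mathlib.LinearAlgebra.Dimension.Constructions
import Mathlib.RingTheory.Artinian.Algebra

set_option autoImplicit false
universe u

namespace Groth.Agent.H1.CSA

/-- Over a finite-dimensional simple algebra, two finite-dimensional modules of the same
dimension are isomorphic. -/
theorem nonempty_linearEquiv_of_finrank_eq
    {k : Type*} [Field k] {R : Type*} [Ring R] [Algebra k R] [IsSimpleRing R]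
    [FiniteDimensional k R]
    {M N : Type u} [AddCommGroup M] [Module k M] [Module R M] [IsScalarTower k R M]
    [AddCommGroup N] [Module k N] [Module R N] [IsScalarTower k R N]
    [FiniteDimensional k M] [FiniteDimensional k N]
    (h : Module.finrank k M = Module.finrank k N) : Nonempty (M ≃ₗ[R] N) := by
  have : IsArtinianRing R := IsArtinianRing.of_finite k R
  have : Module.Finite R M := Module.Finite.of_restrictScalars_finite k R M
  have : Module.Finite R N := Module.Finite.of_restrictScalars_finite k R N
  by_cases hM : Subsingleton M
  · have hN : Subsingleton N := by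
      rw [← Module.finrank_zero_iff (R := k)] at hM ⊢
      omega
    exact ⟨LinearEquiv.ofSubsingleton M N⟩
  · rw [not_subsingleton_iff_nontrivial] at hM
    have hN : Nontrivial N := by
      by_contra hN
      rw [not_nontrivial_iff_subsingleton, ← Module.finrank_zero_iff (R := k)] at hN
      have : Subsingleton M := by
        rw [← Module.finrank_zero_iff (R := k)]
        omega
      exact not_subsingleton M this
    obtain ⟨n, _, S, hS, ⟨e⟩⟩ := (IsSimpleRing.isIsotypic R M).linearEquiv_fun
    obtain ⟨m, _, S', hS', ⟨e'⟩⟩ := (IsSimpleRing.isIsotypic R N).linearEquiv_fun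
    have hSS' : Nonempty (S ≃ₗ[R] S') := by
      let S₁ : Submodule R (M × N) := S.map (LinearMap.inl R M N)
      let S₂ : Submodule R (M × N) := S'.map (LinearMap.inr R M N)
      let e₁ : S ≃ₗ[R] S₁ := S.equivMapOfInjective _ LinearMap.inl_injective
      let e₂ : S' ≃ₗ[R] S₂ := S'.equivMapOfInjective _ LinearMap.inr_injective
      have h1 : IsSimpleModule R S₁ := IsSimpleModule.congr e₁.symm
      have h2 : IsSimpleModule R S₂ := IsSimpleModule.congr e₂.symm
      obtain ⟨e₃⟩ := IsSimpleRing.isIsotypic R (M × N) S₂ S₁
      exact ⟨e₁.trans (e₃.trans e₂.symm)⟩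
    obtain ⟨eS⟩ := hSS'
    have hfS : Module.Finite k S :=
      Module.Finite.of_injective (S.subtype.restrictScalars k) Subtype.val_injective
    have hfS' : Module.Finite k S' :=
      Module.Finite.of_injective (S'.subtype.restrictScalars k) Subtype.val_injective
    have d1 : Module.finrank k M = n * Module.finrank k S := by
      rw [(e.restrictScalars k).finrank_eq, Module.finrank_pi_fintype]
      simp
    have d2 : Module.finrank k N = m * Module.finrank k S := by
      rw [(e'.restrictScalars k).finrank_eq, Module.finrank_pi_fintype,
        (eS.restrictScalars k).finrank_eq]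
      simp
    have hSnt : Nontrivial S := IsSimpleModule.nontrivial R S
    have hpos : 0 < Module.finrank k S := Module.finrank_pos
    have hnm : n = m := by
      rw [d1, d2] at h
      exact Nat.eq_of_mul_eq_mul_right hpos h
    subst hnm
    exact ⟨e.trans ((LinearEquiv.piCongrRight fun _ => eS).trans e'.symm)⟩

end Groth.Agent.H1.CSA
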