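import Groth.Agent.H1.CSA.SplittingField
import Groth.Agent.H1.CSA.MatrixSimple
import Mathlib.Algebra.BrauerGroup.Defs

set_option autoImplicit false
universe u
open scoped TensorProduct
open Matrix.Module

namespace Groth.Agent.H1.CSA

section CancelMatrix

variable {k : Type*} [Field k]

/-- If `k'` splits a matrix algebra over a finite central simple algebra `A`, it splits `A`. -/
theorem splits_of_splits_matrix {A k' : Type*} [Ring A] [Algebra k A] [Algebra.IsCentral k A]
    [IsSimpleRing A] [FiniteDimensional k A] [Field k'] [Algebra k k'] (n : ℕ) (hn : n ≠ 0)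
    (h : Curves.Splits k (Matrix (Fin n) (Fin n) A) k') : Curves.Splits k A k' := by
  obtain ⟨N, hN, ⟨g⟩⟩ := h
  haveI : Algebra.IsCentral k' (k' ⊗[k] A) := isCentral_baseChange k'
  haveI : IsSimpleRing (k' ⊗[k] A) := isSimpleRing_tensorProduct
  haveI : IsArtinianRing (k' ⊗[k] A) := IsArtinianRing.of_finite k' _
  obtain ⟨s, hs, Δ, _, _, _, ⟨f⟩⟩ :=
    IsSimpleRing.exists_algEquiv_matrix_divisionRing_finite k' (k' ⊗[k] A)
  let e1 : Matrix (Fin N) (Fin N) k' ≃ₐ[k'] Matrix (Fin (n * s)) (Fin (n * s)) Δ :=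
    g.symm.trans ((matrixBaseChange k k' A (Fin n)).trans (f.mapMatrix.trans
      ((Matrix.compAlgEquiv (Fin n) (Fin s) Δ k').trans
        (Matrix.reindexAlgEquiv k' Δ finProdFinEquiv))))
  obtain ⟨h⟩ := nonempty_algEquiv_of_matrix_algEquiv k' k' Δ N (n * s) hN
    (Nat.mul_ne_zero hn hs.out) e1
  exact ⟨s, hs.out, ⟨f.trans h.symm.mapMatrix⟩⟩

end CancelMatrix

section ColMod

variable {k : Type u} [Field k] {R : Type u} [Ring R] [Algebra k R] {k' : Type u} [Field k']
  [Algebra k k'] {d : ℕ}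

/-- Column vectors over `k'`, as a module over `R` through `φ : R → M_d(k')`. -/
def ColMod (_φ : R →ₐ[k] Matrix (Fin d) (Fin d) k') : Type u := Fin d → k'

namespace ColMod

variable (φ : R →ₐ[k] Matrix (Fin d) (Fin d) k')

instance : AddCommGroup (ColMod φ) := inferInstanceAs (AddCommGroup (Fin d → k'))
instance : Module k (ColMod φ) := inferInstanceAs (Module k (Fin d → k'))
instance : Module k' (ColMod φ) := inferInstanceAs (Module k' (Fin d → k'))
instance : IsScalarTower k k' (ColMod φ) := inferInstanceAs (IsScalarTower k k' (Fin d → k'))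
instance : Module R (ColMod φ) :=
  Module.compHom (Fin d → k') (φ : R →+* Matrix (Fin d) (Fin d) k')

instance [FiniteDimensional k k'] : FiniteDimensional k (ColMod φ) :=
  inferInstanceAs (FiniteDimensional k (Fin d → k'))

instance [NeZero d] : Nontrivial (ColMod φ) := inferInstanceAs (Nontrivial (Fin d → k'))

theorem finrank_eq [FiniteDimensional k k'] :
    Module.finrank k (ColMod φ) = d * Module.finrank k k' := by
  change Module.finrank k (Fin d → k') = _
  rw [Module.finrank_pi_fintype]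
  simp

instance : IsScalarTower k R (ColMod φ) :=
  ⟨fun a r v => by
    change (φ (a • r)) • (show Fin d → k' from v) = a • ((φ r) • (show Fin d → k' from v))
    rw [map_smul, smul_assoc]⟩

instance : SMulCommClass k' R (ColMod φ) :=
  ⟨fun c r v => by
    change c • ((φ r) • (show Fin d → k' from v)) = (φ r) • (c • (show Fin d → k' from v))
    ext i
    simp only [Pi.smul_apply, Matrix.Module.smul_apply, smul_eq_mul, Finset.mul_sum]
    refine Finset.sum_congr rfl fun j _ => ?_
    ring⟩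

/-- Scalar multiplication by `k'` commutes with the `R`-action. -/
def scalar : k' →ₐ[k] Module.End R (ColMod φ) where
  toFun c :=
    { toFun := fun v => c • v
      map_add' := smul_add c
      map_smul' := fun r v => smul_comm c r v }
  map_one' := by ext v; exact one_smul k' v
  map_mul' a b := by ext v; exact mul_smul a b v
  map_zero' := by ext v; exact zero_smul k' v
  map_add' a b := by ext v; exact add_smul a b v
  commutes' a := by
    ext v
    change (algebraMap k k' a) • v = a • v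
    rw [algebraMap_smul]

end ColMod

/-- The endomorphism algebra of the column module over the opposite of a central division
algebra: a matrix algebra over `D` of dimension `[k' : k]^2`. -/
theorem exists_end_colMod_algEquiv {D : Type u} [DivisionRing D] [Algebra k D]
    [FiniteDimensional k D] [FiniteDimensional k k'] [NeZero d]
    (φ : Dᵐᵒᵖ →ₐ[k] Matrix (Fin d) (Fin d) k') (hd : Module.finrank k D = d ^ 2) :
    ∃ t : ℕ, t ≠ 0 ∧ Nonempty (Module.End Dᵐᵒᵖ (ColMod φ) ≃ₐ[k] Matrix (Fin t) (Fin t) D) ∧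
      Module.finrank k (Module.End Dᵐᵒᵖ (ColMod φ)) = Module.finrank k k' ^ 2 := by
  haveI : FiniteDimensional k Dᵐᵒᵖ := Module.Finite.equiv (MulOpposite.opLinearEquiv k)
  haveI : Module.Finite Dᵐᵒᵖ (ColMod φ) := Module.Finite.of_restrictScalars_finite k _ _
  have hdpos : 0 < d := Nat.pos_of_ne_zero (NeZero.ne d)
  refine ⟨Module.finrank Dᵐᵒᵖ (ColMod φ), (Module.finrank_pos).ne', ⟨?_⟩, ?_⟩
  · let e : ColMod φ ≃ₗ[Dᵐᵒᵖ] (Fin (Module.finrank Dᵐᵒᵖ (ColMod φ)) → Dᵐᵒᵖ) :=
      (Module.finBasis Dᵐᵒᵖ (ColMod φ)).equivFun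
    exact (e.conjAlgEquiv k).trans ((endVecAlgEquivMatrixEnd _ k Dᵐᵒᵖ Dᵐᵒᵖ).trans
      ((AlgEquiv.moduleEndSelf k : Dᵐᵒᵖᵐᵒᵖ ≃ₐ[k] Module.End Dᵐᵒᵖ Dᵐᵒᵖ).symm.mapMatrix.trans
        (AlgEquiv.opOp k D).symm.mapMatrix))
  · have h := finrank_end_mul_finrank (k := k) (R := Dᵐᵒᵖ) (ColMod φ)
    rw [← (MulOpposite.opLinearEquiv k : D ≃ₗ[k] Dᵐᵒᵖ).finrank_eq, hd, ColMod.finrank_eq,
      mul_pow] at h
    have hd2 : 0 < d ^ 2 := pow_pos hdpos 2
    rw [mul_comm (d ^ 2)] at h
    exact Nat.eq_of_mul_eq_mul_right hd2 h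

end ColMod

end Groth.Agent.H1.CSA
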