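import Groth.Agent.H1.CSA.KronPow
import Groth.Agent.H1.CSA.TPow
import Groth.Agent.H1.CSA.SkolemNoether
import Groth.Agent.H1.CSA.SplittingField
import Groth.Agent.H1.CSA.Index
import Mathlib.RingTheory.Trace.Basic
import Mathlib.FieldTheory.Galois.Basic
import Mathlib.RingTheory.Flat.Basic

/-!
# The `deg A`-fold tensor power of a central simple algebra is split

Over a Galois splitting field `K` with `φ : K ⊗ A ≃ M_n(K)`, the tensor power `A^{⊗r}` is
represented on `K^{(Fin r → Fin n)}` by Kronecker products.  By Galois descent the permutation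
matrices lie in the image of `A^{⊗r}`; the antisymmetrizer (for `r = n`) has rank one, giving a
left ideal of dimension `n ^ n`.
-/

set_option autoImplicit false
universe u u' v w
open scoped TensorProduct
open Groth.Agent.H1.CSA.KronPow

namespace Groth.Agent.H1.CSA.TPowRep

section Descent

variable {k : Type u} [Field k] {K : Type u'} [Field K] [Algebra k K]
  (W : Type w) [AddCommGroup W] [Module k W]

/-- The Galois action on the left factor of `K ⊗ W`. -/
noncomputable def act (σ : K ≃ₐ[k] K) : K ⊗[k] W →ₗ[k] K ⊗[k] W :=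
  LinearMap.rTensor W σ.toLinearMap

theorem act_tmul (σ : K ≃ₐ[k] K) (c : K) (w : W) : act W σ (c ⊗ₜ[k] w) = σ c ⊗ₜ[k] w := rfl

theorem act_smul (σ : K ≃ₐ[k] K) (c : K) (z : K ⊗[k] W) :
    act W σ (c • z) = σ c • act W σ z := by
  induction z using TensorProduct.induction_on with
  | zero => simp
  | tmul x w =>
    rw [TensorProduct.smul_tmul', act_tmul, act_tmul, TensorProduct.smul_tmul', smul_eq_mul,
      smul_eq_mul, map_mul]
  | add z z' hz hz' => rw [smul_add, map_add, map_add, smul_add, hz, hz']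

variable [FiniteDimensional k K] [IsGalois k K]

theorem sum_act (z : K ⊗[k] W) :
    ∑ σ : K ≃ₐ[k] K, act W σ z =
      (1 : K) ⊗ₜ[k] (TensorProduct.lid k W ((Algebra.trace k K).rTensor W z)) := by
  induction z using TensorProduct.induction_on with
  | zero => simp
  | tmul c w =>
    simp only [act_tmul, LinearMap.rTensor_tmul, TensorProduct.lid_tmul]
    rw [← TensorProduct.sum_tmul, ← trace_eq_sum_automorphisms, Algebra.algebraMap_eq_smul_one,
      TensorProduct.smul_tmul]
  | add z z' hz hz' =>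
    simp only [map_add, Finset.sum_add_distrib, TensorProduct.tmul_add, hz, hz']

/-- Galois descent: fixed elements of `K ⊗ W` come from `W`. -/
theorem fixed_eq_one_tmul (z : K ⊗[k] W) (hz : ∀ σ : K ≃ₐ[k] K, act W σ z = z) :
    ∃ w : W, z = (1 : K) ⊗ₜ[k] w := by
  obtain ⟨d, hd⟩ := Algebra.trace_surjective k K 1
  refine ⟨TensorProduct.lid k W ((Algebra.trace k K).rTensor W (d • z)), ?_⟩
  rw [← sum_act W (d • z)]
  simp only [act_smul, hz]
  rw [← Finset.sum_smul, ← trace_eq_sum_automorphisms, hd, map_one, one_smul]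

end Descent

section Rep

variable {k : Type u} [Field k] {K : Type u'} [Field K] [Algebra k K]
  {A : Type v} [Ring A] [Algebra k A] {n : ℕ}
  (φ : K ⊗[k] A ≃ₐ[K] Matrix (Fin n) (Fin n) K)

/-- The representation of `A` on `K ^ n`. -/
noncomputable def rho : A →ₐ[k] Matrix (Fin n) (Fin n) K :=
  ((φ : K ⊗[k] A →ₐ[K] Matrix (Fin n) (Fin n) K).restrictScalars k).comp
    (Algebra.TensorProduct.includeRight : A →ₐ[k] K ⊗[k] A)

theorem rho_apply (a : A) : rho φ a = φ ((1 : K) ⊗ₜ[k] a) := rfl

/-- One matrix entry of the Kronecker product, as a multilinear map. -/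
noncomputable def entryMulti (r : ℕ) (f g : Fin r → Fin n) :
    MultilinearMap k (fun _ : Fin r => A) K :=
  (MultilinearMap.mkPiAlgebra k (Fin r) K).compLinearMap
    (fun i => (Matrix.entryLinearMap k K (f i) (g i)).comp (rho φ).toLinearMap)

theorem entryMulti_apply (r : ℕ) (f g : Fin r → Fin n) (a : Fin r → A) :
    entryMulti φ r f g a = ∏ i, rho φ (a i) (f i) (g i) := rfl

/-- The Kronecker product of the representations, as a multilinear map. -/
noncomputable def rhoMulti (r : ℕ) :
    MultilinearMap k (fun _ : Fin r => A) (Matrix (Fin r → Fin n) (Fin r → Fin n) K) where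
  toFun a := Matrix.of fun f g => entryMulti φ r f g a
  map_update_add' a i x y := by
    ext f g
    simp only [Matrix.of_apply, Matrix.add_apply]
    exact (entryMulti φ r f g).map_update_add a i x y
  map_update_smul' a i c x := by
    ext f g
    simp only [Matrix.of_apply, Matrix.smul_apply]
    exact (entryMulti φ r f g).map_update_smul a i c x

theorem rhoMulti_apply (r : ℕ) (a : Fin r → A) :
    rhoMulti φ r a = kronP 1 (fun i => rho φ (a i)) := by
  ext f g
  rfl

/-- The representation of `A^{⊗r}` on `K ^ (Fin r → Fin n)`. -/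
noncomputable def rhoAlg (r : ℕ) :
    CSAGal.tpow k A r →ₐ[k] Matrix (Fin r → Fin n) (Fin r → Fin n) K :=
  PiTensorProduct.liftAlgHom (rhoMulti φ r)
    (by
      rw [rhoMulti_apply]
      simp only [Pi.one_apply, map_one]
      exact kronP_one_one)
    (fun x y => by
      rw [rhoMulti_apply, rhoMulti_apply, rhoMulti_apply, kronP_mul]
      simp only [Pi.mul_apply, map_mul, mul_one, Equiv.Perm.one_apply])

theorem rhoAlg_tprod (r : ℕ) (a : Fin r → A) :
    rhoAlg φ r (PiTensorProduct.tprod k a) = kronP 1 (fun i => rho φ (a i)) := by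
  show PiTensorProduct.lift (rhoMulti φ r) (PiTensorProduct.tprod k a) = _
  rw [PiTensorProduct.lift.tprod, rhoMulti_apply]

/-- The `K`-linear extension of `rhoAlg`. -/
noncomputable def PhiR (r : ℕ) :
    K ⊗[k] CSAGal.tpow k A r →ₐ[K] Matrix (Fin r → Fin n) (Fin r → Fin n) K :=
  Algebra.TensorProduct.lift (Algebra.ofId K _) (rhoAlg φ r)
    (fun c t => Algebra.commute_algebraMap_left c _)

theorem PhiR_tmul (r : ℕ) (c : K) (t : CSAGal.tpow k A r) :
    PhiR φ r (c ⊗ₜ[k] t) = c • rhoAlg φ r t := by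
  rw [PhiR, Algebra.TensorProduct.lift_tmul, Algebra.ofId_apply, ← Algebra.smul_def]

/-- The twisted representation `c ⊗ a ↦ c • σ(ρ a)`. -/
noncomputable def sigmaHom (σ : K ≃ₐ[k] K) : K ⊗[k] A →ₐ[K] Matrix (Fin n) (Fin n) K :=
  Algebra.TensorProduct.lift (Algebra.ofId K _)
    ((σ.mapMatrix : Matrix (Fin n) (Fin n) K ≃ₐ[k] Matrix (Fin n) (Fin n) K).toAlgHom.comp
      (rho φ))
    (fun c t => Algebra.commute_algebraMap_left c _)

theorem sigmaHom_one_tmul (σ : K ≃ₐ[k] K) (a : A) :
    sigmaHom φ σ ((1 : K) ⊗ₜ[k] a) = (rho φ a).map σ := by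
  rw [sigmaHom, Algebra.TensorProduct.lift_tmul, map_one, one_mul]
  rfl

variable [Algebra.IsCentral k A] [IsSimpleRing A] [FiniteDimensional k A]

include φ in
theorem finrank_eq_sq : Module.finrank k A = n ^ 2 := by
  have h1 : Module.finrank K (K ⊗[k] A) = Module.finrank k A := Module.finrank_baseChange
  rw [← h1, φ.toLinearEquiv.finrank_eq, Module.finrank_matrix K K (Fin n) (Fin n),
    Module.finrank_self, Fintype.card_fin, mul_one, sq]

theorem PhiR_bijective (hn : 0 < n) (r : ℕ) : Function.Bijective (PhiR φ r) := by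
  haveI : NeZero n := ⟨hn.ne'⟩
  haveI : IsSimpleRing (K ⊗[k] CSAGal.tpow k A r) := isSimpleRing_tensorProduct
  have hinj : Function.Injective (PhiR φ r) := RingHom.injective (PhiR φ r).toRingHom
  have hd : Module.finrank K (K ⊗[k] CSAGal.tpow k A r) =
      Module.finrank K (Matrix (Fin r → Fin n) (Fin r → Fin n) K) := by
    rw [Module.finrank_baseChange, finrank_tpow k A r, finrank_eq_sq φ,
      Module.finrank_matrix K K (Fin r → Fin n) (Fin r → Fin n), Module.finrank_self,
      Fintype.card_pi_const, Fintype.card_fin, mul_one]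
    ring
  exact ⟨hinj, (LinearMap.injective_iff_surjective_of_finrank_eq_finrank
    (f := (PhiR φ r).toLinearMap) hd).mp hinj⟩

/-- Semilinear Skolem–Noether. -/
theorem exists_conj (hn : 0 < n) (σ : K ≃ₐ[k] K) :
    ∃ u : (Matrix (Fin n) (Fin n) K)ˣ, ∀ a : A,
      rho φ a = (u : Matrix (Fin n) (Fin n) K) * (rho φ a).map σ *
        ((u⁻¹ : (Matrix (Fin n) (Fin n) K)ˣ) : Matrix (Fin n) (Fin n) K) := by
  haveI : NeZero n := ⟨hn.ne'⟩
  haveI : IsSimpleRing (K ⊗[k] A) := isSimpleRing_tensorProduct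
  obtain ⟨u, hu⟩ := skolem_noether K (Matrix (Fin n) (Fin n) K) (K ⊗[k] A)
    (φ : K ⊗[k] A →ₐ[K] Matrix (Fin n) (Fin n) K) (sigmaHom φ σ)
  refine ⟨u, fun a => ?_⟩
  have h := hu ((1 : K) ⊗ₜ[k] a)
  rw [sigmaHom_one_tmul] at h
  exact h

theorem rhoAlg_conj (σ : K ≃ₐ[k] K) (u : (Matrix (Fin n) (Fin n) K)ˣ)
    (hu : ∀ a : A, rho φ a = (u : Matrix (Fin n) (Fin n) K) * (rho φ a).map σ *
        ((u⁻¹ : (Matrix (Fin n) (Fin n) K)ˣ) : Matrix (Fin n) (Fin n) K))
    (r : ℕ) (t : CSAGal.tpow k A r) :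
    rhoAlg φ r t = kronP 1 (fun _ => (u : Matrix (Fin n) (Fin n) K)) * (rhoAlg φ r t).map σ *
      kronP 1 (fun _ => ((u⁻¹ : (Matrix (Fin n) (Fin n) K)ˣ) : Matrix (Fin n) (Fin n) K)) := by
  have h : (rhoAlg φ r).toLinearMap =
      (LinearMap.mulLeft k (kronP (1 : Equiv.Perm (Fin r))
          (fun _ => (u : Matrix (Fin n) (Fin n) K)))).comp
        ((LinearMap.mulRight k (kronP (1 : Equiv.Perm (Fin r))
          (fun _ => ((u⁻¹ : (Matrix (Fin n) (Fin n) K)ˣ) : Matrix (Fin n) (Fin n) K)))).comp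
        ((σ.mapMatrix : Matrix (Fin r → Fin n) (Fin r → Fin n) K ≃ₐ[k] _).toLinearMap.comp
          (rhoAlg φ r).toLinearMap)) := by
    refine PiTensorProduct.ext ?_
    refine MultilinearMap.ext fun a => ?_
    show rhoAlg φ r (PiTensorProduct.tprod k a) =
      kronP 1 (fun _ => (u : Matrix (Fin n) (Fin n) K)) *
        ((rhoAlg φ r (PiTensorProduct.tprod k a)).map σ *
          kronP 1 (fun _ => ((u⁻¹ : (Matrix (Fin n) (Fin n) K)ˣ) : Matrix (Fin n) (Fin n) K)))
    rw [rhoAlg_tprod, kronP_map, ← mul_assoc, kronP_mul, kronP_mul]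
    simp only [mul_one, Equiv.Perm.one_apply]
    congr 1
    funext j
    exact hu (a j)
  have h2 := LinearMap.congr_fun h t
  rw [mul_assoc]
  exact h2

theorem map_smul_matrix {m : Type*} (σ : K ≃ₐ[k] K) (c : K) (M : Matrix m m K) :
    (c • M).map σ = σ c • M.map σ := by
  ext i j
  simp only [Matrix.map_apply, Matrix.smul_apply, smul_eq_mul, map_mul]

theorem PhiR_act (σ : K ≃ₐ[k] K) (u : (Matrix (Fin n) (Fin n) K)ˣ)
    (hu : ∀ a : A, rho φ a = (u : Matrix (Fin n) (Fin n) K) * (rho φ a).map σ *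
        ((u⁻¹ : (Matrix (Fin n) (Fin n) K)ˣ) : Matrix (Fin n) (Fin n) K))
    (r : ℕ) (z : K ⊗[k] CSAGal.tpow k A r) :
    PhiR φ r (act (CSAGal.tpow k A r) σ z) =
      kronP 1 (fun _ => (u : Matrix (Fin n) (Fin n) K)) * (PhiR φ r z).map σ *
      kronP 1 (fun _ => ((u⁻¹ : (Matrix (Fin n) (Fin n) K)ˣ) : Matrix (Fin n) (Fin n) K)) := by
  induction z using TensorProduct.induction_on with
  | zero =>
    rw [map_zero, map_zero, Matrix.map_zero _ (map_zero σ), mul_zero, zero_mul]
  | tmul c t =>
    rw [act_tmul, PhiR_tmul, PhiR_tmul, map_smul_matrix, Matrix.mul_smul, Matrix.smul_mul,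
      ← rhoAlg_conj φ σ u hu r t]
  | add z z' hz hz' =>
    rw [map_add, map_add, map_add, hz, hz', Matrix.map_add _ (map_add σ), mul_add, add_mul]

variable [FiniteDimensional k K] [IsGalois k K]

/-- Permutation matrices are in the image of `A^{⊗r}`. -/
theorem exists_rep_perm (hn : 0 < n) (r : ℕ) (π : Equiv.Perm (Fin r)) :
    ∃ t : CSAGal.tpow k A r,
      rhoAlg φ r t = kronP π (fun _ => (1 : Matrix (Fin n) (Fin n) K)) := by
  obtain ⟨z, hz⟩ := (PhiR_bijective φ hn r).2 (kronP π (fun _ => 1))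
  have hfix : ∀ σ : K ≃ₐ[k] K, act (CSAGal.tpow k A r) σ z = z := by
    intro σ
    obtain ⟨u, hu⟩ := exists_conj φ hn σ
    apply (PhiR_bijective φ hn r).1
    rw [PhiR_act φ σ u hu r z, hz, kronP_map]
    have h1 : ((1 : Matrix (Fin n) (Fin n) K).map σ) = 1 :=
      Matrix.map_one _ (map_zero σ) (map_one σ)
    simp only [h1]
    rw [← perm_comm_kron, mul_assoc, kron_mul_kron_inv _ _ (Units.mul_inv u), mul_one]
  obtain ⟨t, ht⟩ := fixed_eq_one_tmul _ z hfix
  refine ⟨t, ?_⟩
  rw [← hz, ht, PhiR_tmul, one_smul]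

include φ in
/-- The `n`-fold tensor power of a degree `n` algebra split by a Galois extension is split. -/
theorem splits_tpow_of_galois (hn : 0 < n) : Curves.Splits k (CSAGal.tpow k A n) k := by
  classical
  haveI : NeZero n := ⟨hn.ne'⟩
  choose t ht using exists_rep_perm φ hn n
  let s : CSAGal.tpow k A n := ∑ π : Equiv.Perm (Fin n), ((Equiv.Perm.sign π : ℤ) : k) • t π
  have hs : rhoAlg φ n s = asym K n := by
    rw [map_sum, asym]
    refine Finset.sum_congr rfl fun π _ => ?_
    rw [map_smul, ht, ← algebraMap_smul K (((Equiv.Perm.sign π : ℤ) : k)), map_intCast]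
  have hs0 : s ≠ 0 := by
    intro h
    rw [h, map_zero] at hs
    exact asym_ne_zero hs.symm
  let I : Ideal (CSAGal.tpow k A n) := Ideal.span {s}
  let incl : I →ₗ[k] CSAGal.tpow k A n := I.subtype.restrictScalars k
  have hincl : Function.Injective incl := Subtype.val_injective
  haveI : Module.Finite k I := Module.Finite.of_injective incl hincl
  haveI : Nontrivial I :=
    ⟨⟨⟨s, Ideal.subset_span rfl⟩, 0, fun h => hs0 (congrArg Subtype.val h)⟩⟩
  -- the dimension bound
  let vm : ((Fin n → Fin n) → K) →ₗ[K] Matrix (Fin n → Fin n) (Fin n → Fin n) K :=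
    { toFun := fun v => Matrix.vecMulVec v (eps K)
      map_add' := fun v w => Matrix.add_vecMulVec v w (eps K)
      map_smul' := fun c v => Matrix.smul_vecMulVec c v (eps K) }
  let Ψ : K ⊗[k] I →ₗ[K] Matrix (Fin n → Fin n) (Fin n → Fin n) K :=
    (PhiR φ n).toLinearMap.comp (incl.baseChange K)
  have hΨinj : Function.Injective Ψ := by
    refine (PhiR_bijective φ hn n).1.comp ?_
    have := Module.Flat.lTensor_preserves_injective_linearMap (M := K) incl hincl
    exact this
  have hΨrange : LinearMap.range Ψ ≤ LinearMap.range vm := by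
    rintro _ ⟨z, rfl⟩
    induction z using TensorProduct.induction_on with
    | zero => rw [map_zero]; exact zero_mem _
    | tmul c w =>
      obtain ⟨a, ha⟩ := Ideal.mem_span_singleton'.mp w.2
      refine ⟨c • (Matrix.mulVec (rhoAlg φ n a) (eps K)), ?_⟩
      show Matrix.vecMulVec (c • (Matrix.mulVec (rhoAlg φ n a) (eps K))) (eps K) =
        PhiR φ n (c ⊗ₜ[k] (w : CSAGal.tpow k A n))
      rw [PhiR_tmul, ← ha, map_mul, hs, mul_asym, Matrix.smul_vecMulVec]
    | add z z' hz hz' => rw [map_add]; exact add_mem hz hz'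
  have hdim : Module.finrank k I ≤ n ^ n := by
    calc Module.finrank k I = Module.finrank K (K ⊗[k] I) := Module.finrank_baseChange.symm
      _ = Module.finrank K (LinearMap.range Ψ) := (LinearMap.finrank_range_of_inj hΨinj).symm
      _ ≤ Module.finrank K (LinearMap.range vm) := Submodule.finrank_mono hΨrange
      _ ≤ Module.finrank K ((Fin n → Fin n) → K) := LinearMap.finrank_range_le vm
      _ = n ^ n := by
        rw [Module.finrank_fintype_fun_eq_card, Fintype.card_pi_const, Fintype.card_fin]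
  refine splits_of_module (A := CSAGal.tpow k A n) I ?_
  rw [finrank_tpow k A n, finrank_eq_sq φ]
  calc Module.finrank k I ^ 2 ≤ (n ^ n) ^ 2 := Nat.pow_le_pow_left hdim 2
    _ = (n ^ 2) ^ n := by ring

end Rep

section Main

variable {k : Type u} [Field k] (A : Type v) [Ring A] [Algebra k A]
  [Algebra.IsCentral k A] [IsSimpleRing A] [FiniteDimensional k A]

/-- The `n`-fold tensor power of a central simple algebra of degree `n` is split. -/
theorem splits_tpow_degree (n : ℕ) (hA : Module.finrank k A = n ^ 2) :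
    Curves.Splits k (CSAGal.tpow k A n) k := by
  obtain ⟨K, _, _, hfd, hgal, n', hn', ⟨φ⟩⟩ := exists_galois_splitting_field (k := k) A
  have h1 := finrank_eq_sq φ
  rw [hA] at h1
  have h2 : n = n' := Nat.pow_left_injective two_ne_zero h1
  subst h2
  exact splits_tpow_of_galois φ (Nat.pos_of_ne_zero hn')

/-- The `d`-fold tensor power of an algebra of index `d` is split. -/
theorem splits_tpow_of_isIndex {d : ℕ} (h : CSAGal.IsIndex k A d) :
    Curves.Splits k (CSAGal.tpow k A d) k := by
  obtain ⟨hd, m, D, _, _, hm, hdim, ⟨e⟩⟩ := h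
  haveI : Algebra.IsCentral k (Matrix (Fin m) (Fin m) D) := isCentral_of_algEquiv e
  haveI : NeZero m := ⟨hm.ne'⟩
  haveI : Algebra.IsCentral k D := isCentral_of_matrix k D m
  haveI : FiniteDimensional k D :=
    Module.finite_of_finrank_pos (by rw [hdim]; exact pow_pos hd 2)
  have hD := splits_tpow_degree D d hdim
  have hbr : BrEq k A D := (BrEq.of_algEquiv e).trans (BrEq.matrix D m hm.ne')
  exact (hbr.tpow d).symm.splits hD

end Main

end Groth.Agent.H1.CSA.TPowRep
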