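import Mathlib.LinearAlgebra.TensorProduct.Basis
import Mathlib.RingTheory.TensorProduct.Basic
import Mathlib.RingTheory.TwoSidedIdeal.Operations
import Mathlib.RingTheory.SimpleRing.Basic
import Mathlib.Algebra.Central.Basic
import Mathlib.LinearAlgebra.Basis.VectorSpace

set_option autoImplicit false
universe u v w
open scoped TensorProduct
open TensorProduct

namespace Groth.Agent.H1.CSA

variable {k : Type u} [Field k] {B : Type v} [Ring B] [Algebra k B] {A : Type w} [Ring A]
  [Algebra k A]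

section coord

variable {ι : Type*} [DecidableEq ι] (b : Module.Basis ι k B)

theorem coord_one_tmul_mul (d : A) (x : B ⊗[k] A) (i : ι) :
    equivFinsuppOfBasisLeft b ((1 ⊗ₜ[k] d) * x) i = d * equivFinsuppOfBasisLeft b x i := by
  induction x using TensorProduct.induction_on with
  | zero => simp
  | tmul m n =>
    rw [Algebra.TensorProduct.tmul_mul_tmul, one_mul, equivFinsuppOfBasisLeft_apply_tmul_apply,
      equivFinsuppOfBasisLeft_apply_tmul_apply, mul_smul_comm]
  | add x y hx hy => simp only [mul_add, map_add, Finsupp.add_apply, hx, hy]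

theorem coord_mul_one_tmul (d : A) (x : B ⊗[k] A) (i : ι) :
    equivFinsuppOfBasisLeft b (x * (1 ⊗ₜ[k] d)) i = equivFinsuppOfBasisLeft b x i * d := by
  induction x using TensorProduct.induction_on with
  | zero => simp
  | tmul m n =>
    rw [Algebra.TensorProduct.tmul_mul_tmul, mul_one, equivFinsuppOfBasisLeft_apply_tmul_apply,
      equivFinsuppOfBasisLeft_apply_tmul_apply, smul_mul_assoc]
  | add x y hx hy => simp only [add_mul, map_add, Finsupp.add_apply, hx, hy]

theorem exists_eq_tmul_one_of_coord_mem_range (x : B ⊗[k] A)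
    (h : ∀ i, equivFinsuppOfBasisLeft b x i ∈ Set.range (algebraMap k A)) :
    ∃ b₀ : B, x = b₀ ⊗ₜ[k] (1 : A) := by
  choose r hr using h
  refine ⟨∑ i ∈ (equivFinsuppOfBasisLeft b x).support, r i • b i, ?_⟩
  conv_lhs => rw [← (equivFinsuppOfBasisLeft b).symm_apply_apply x,
    equivFinsuppOfBasisLeft_symm_apply, Finsupp.sum]
  rw [TensorProduct.sum_tmul]
  refine Finset.sum_congr rfl fun i _ => ?_
  rw [← hr i, Algebra.algebraMap_eq_smul_one, TensorProduct.tmul_smul, TensorProduct.smul_tmul']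

end coord

section main

variable [IsSimpleRing A] [Algebra.IsCentral k A]

/-- The ideal of `B ⊗ A` generated by the elements `b ⊗ 1` lying in `I`. -/
noncomputable def baseIdeal (I : TwoSidedIdeal (B ⊗[k] A)) : TwoSidedIdeal (B ⊗[k] A) :=
  TwoSidedIdeal.span ((fun a : B => a ⊗ₜ[k] (1 : A)) '' {a : B | a ⊗ₜ[k] (1 : A) ∈ I})

omit [IsSimpleRing A] [Algebra.IsCentral k A] in
theorem baseIdeal_le (I : TwoSidedIdeal (B ⊗[k] A)) : baseIdeal I ≤ I := by
  rw [baseIdeal, TwoSidedIdeal.span_le]
  rintro _ ⟨a, ha, rfl⟩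
  exact ha

theorem mem_baseIdeal_of_card {ι : Type*} [DecidableEq ι] (b : Module.Basis ι k B)
    (I : TwoSidedIdeal (B ⊗[k] A)) :
    ∀ (n : ℕ) (x : B ⊗[k] A), x ∈ I → (equivFinsuppOfBasisLeft b x).support.card ≤ n →
      x ∈ baseIdeal I := by
  intro n
  induction n using Nat.strong_induction_on with
  | _ n ih =>
    intro x hx hn
    set φ := equivFinsuppOfBasisLeft (N := A) b with hφ
    by_cases hx0 : x = 0
    · subst hx0; exact (baseIdeal I).zero_mem
    set S := (φ x).support with hS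
    let 𝒯 : Set (B ⊗[k] A) := {y | y ∈ I ∧ y ≠ 0 ∧ (φ y).support ⊆ S}
    have hx𝒯 : x ∈ 𝒯 := ⟨hx, hx0, subset_rfl⟩
    obtain ⟨y₀, hy₀, hmin⟩ := WellFounded.has_min
      (measure (fun y : B ⊗[k] A => (φ y).support.card)).wf 𝒯 ⟨x, hx𝒯⟩
    set S₀ := (φ y₀).support with hS₀
    have hS₀ne : S₀.Nonempty := by
      rw [Finsupp.support_nonempty_iff]
      intro h
      exact hy₀.2.1 (φ.injective (by rw [h, map_zero]))
    obtain ⟨j₁, hj₁⟩ := hS₀ne
    have hj₁S : j₁ ∈ S := hy₀.2.2 hj₁
    have key : ∀ y ∈ I, (φ y).support ⊆ S₀ → φ y j₁ = 0 → y = 0 := by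
      intro y hyI hyS hy1
      by_contra hy0
      have hy𝒯 : y ∈ 𝒯 := ⟨hyI, hy0, hyS.trans hy₀.2.2⟩
      apply hmin y hy𝒯
      change (φ y).support.card < (φ y₀).support.card
      apply Finset.card_lt_card
      refine ⟨hyS, fun h => ?_⟩
      have := h hj₁
      rw [Finsupp.mem_support_iff] at this
      exact this hy1
    -- support lemmas
    have supp_left : ∀ (d : A) (y : B ⊗[k] A), (φ ((1 ⊗ₜ[k] d) * y)).support ⊆ (φ y).support := by
      intro d y i hi
      rw [Finsupp.mem_support_iff] at hi ⊢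
      intro h
      apply hi
      rw [hφ, coord_one_tmul_mul, ← hφ, h, mul_zero]
    have supp_right : ∀ (d : A) (y : B ⊗[k] A), (φ (y * (1 ⊗ₜ[k] d))).support ⊆ (φ y).support := by
      intro d y i hi
      rw [Finsupp.mem_support_iff] at hi ⊢
      intro h
      apply hi
      rw [hφ, coord_mul_one_tmul, ← hφ, h, zero_mul]
    -- the ideal of `j₁`-coordinates
    let 𝔞 : TwoSidedIdeal A := TwoSidedIdeal.mk'
      {a | ∃ y ∈ I, (φ y).support ⊆ S₀ ∧ φ y j₁ = a}
      ⟨0, I.zero_mem, by simp, by simp⟩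
      (by
        rintro a a' ⟨y, hy, hys, rfl⟩ ⟨y', hy', hys', rfl⟩
        refine ⟨y + y', I.add_mem hy hy', ?_, by simp⟩
        rw [map_add]
        exact Finsupp.support_add.trans (Finset.union_subset hys hys'))
      (by
        rintro a ⟨y, hy, hys, rfl⟩
        refine ⟨-y, I.neg_mem hy, ?_, by simp⟩
        rw [map_neg, Finsupp.support_neg]
        exact hys)
      (by
        rintro d a ⟨y, hy, hys, rfl⟩
        refine ⟨(1 ⊗ₜ[k] d) * y, I.mul_mem_left _ _ hy, (supp_left d y).trans hys, ?_⟩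
        rw [hφ, coord_one_tmul_mul])
      (by
        rintro a d ⟨y, hy, hys, rfl⟩
        refine ⟨y * (1 ⊗ₜ[k] d), I.mul_mem_right _ _ hy, (supp_right d y).trans hys, ?_⟩
        rw [hφ, coord_mul_one_tmul])
    have h𝔞 : 𝔞 ≠ ⊥ := by
      intro h
      have h1 : φ y₀ j₁ ∈ 𝔞 := by
        rw [TwoSidedIdeal.mem_mk']
        exact ⟨y₀, hy₀.1, subset_rfl, rfl⟩
      rw [h, TwoSidedIdeal.mem_bot] at h1
      rw [Finsupp.mem_support_iff] at hj₁
      exact hj₁ h1
    have h1𝔞 : (1 : A) ∈ 𝔞 := IsSimpleRing.one_mem_of_ne_bot 𝔞 h𝔞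
    rw [TwoSidedIdeal.mem_mk'] at h1𝔞
    obtain ⟨y₁, hy₁I, hy₁S, hy₁1⟩ := h1𝔞
    -- the coordinates of `y₁` are central
    have hcomm : ∀ (d : A) (i : ι), d * φ y₁ i = φ y₁ i * d := by
      intro d i
      have hz : (1 ⊗ₜ[k] d) * y₁ - y₁ * (1 ⊗ₜ[k] d) = 0 := by
        apply key
        · exact I.sub_mem (I.mul_mem_left _ _ hy₁I) (I.mul_mem_right _ _ hy₁I)
        · rw [map_sub]
          refine Finsupp.support_sub.trans (Finset.union_subset ?_ ?_)
          · exact (supp_left d y₁).trans hy₁S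
          · exact (supp_right d y₁).trans hy₁S
        · rw [map_sub, Finsupp.sub_apply, hφ, coord_one_tmul_mul, coord_mul_one_tmul, ← hφ, hy₁1,
            mul_one, one_mul, sub_self]
      have := congrArg (fun z => φ z i) hz
      simp only [map_sub, Finsupp.sub_apply, map_zero, Finsupp.zero_apply] at this
      rw [hφ, coord_one_tmul_mul, coord_mul_one_tmul, ← hφ, sub_eq_zero] at this
      exact this
    have hcentral : ∀ i, φ y₁ i ∈ Set.range (algebraMap k A) := by
      intro i
      have hmem : φ y₁ i ∈ Subalgebra.center k A := by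
        rw [Subalgebra.mem_center_iff]
        intro d
        exact hcomm d i
      obtain ⟨r, hr⟩ := (Algebra.IsCentral.mem_center_iff k).mp hmem
      exact ⟨r, hr.symm⟩
    obtain ⟨b₁, hb₁⟩ := exists_eq_tmul_one_of_coord_mem_range b y₁ hcentral
    have hy₁J : y₁ ∈ baseIdeal I := by
      rw [hb₁]
      apply TwoSidedIdeal.subset_span
      exact ⟨b₁, by simpa [← hb₁] using hy₁I, rfl⟩
    -- reduce `x`
    set x' := x - y₁ * (1 ⊗ₜ[k] (φ x j₁)) with hx'
    have hx'I : x' ∈ I := I.sub_mem hx (I.mul_mem_right _ _ hy₁I)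
    have hx'j : φ x' j₁ = 0 := by
      rw [hx', map_sub, Finsupp.sub_apply, hφ, coord_mul_one_tmul, ← hφ, hy₁1, one_mul, sub_self]
    have hx'S : (φ x').support ⊆ S.erase j₁ := by
      intro i hi
      rw [Finset.mem_erase]
      refine ⟨?_, ?_⟩
      · rintro rfl
        rw [Finsupp.mem_support_iff] at hi
        exact hi hx'j
      · have : (φ x').support ⊆ S := by
          rw [hx', map_sub]
          refine Finsupp.support_sub.trans (Finset.union_subset subset_rfl ?_)
          exact ((supp_right _ y₁).trans hy₁S).trans hy₀.2.2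
        exact this hi
    have hcard : (φ x').support.card < n := by
      refine lt_of_lt_of_le ?_ hn
      refine lt_of_le_of_lt (Finset.card_le_card hx'S) ?_
      exact Finset.card_erase_lt_of_mem hj₁S
    have hx'J : x' ∈ baseIdeal I := ih _ hcard x' hx'I le_rfl
    have : x = x' + y₁ * (1 ⊗ₜ[k] (φ x j₁)) := by rw [hx']; abel
    rw [this]
    exact (baseIdeal I).add_mem hx'J ((baseIdeal I).mul_mem_right _ _ hy₁J)

/-- Every two-sided ideal of `B ⊗ A`, with `A` central simple over `k`, is generated by the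
elements `b ⊗ 1` it contains. -/
theorem eq_baseIdeal (I : TwoSidedIdeal (B ⊗[k] A)) : I = baseIdeal I := by
  classical
  refine le_antisymm (fun x hx => ?_) (baseIdeal_le I)
  exact mem_baseIdeal_of_card (Module.Basis.ofVectorSpace k B) I _ x hx le_rfl

end main

end Groth.Agent.H1.CSA
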